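import Cfsg.Agent.H892.EP.TM
import Cfsg.Agent.H53.HC.RgdLevi
import Cfsg.Agent.Nodes.WittModel
import Cfsg.Agent.Nodes.WittU
import Cfsg.Agent.TitsThree.KInstU

/-!
# S4929: the middle Levi subgroup `SU_k(q)` of `PSU_n(q)`, `n - k` even (helper697)

`emb`: the embedding `GL(F^k) → GL(F^(k+l))`; `comb`: the Witt frame of an orthogonal sum; `mj_eq` : the subgroup `M_J`
for the last nodes is the image of `SU_k(q)`; `good_psu_mid`.
-/

set_option autoImplicit false
set_option linter.unusedSectionVars false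

namespace Cfsg.Agent.H697.EP.Mid

open Cfsg Cfsg.Agent.LieClassical.HermBasic
open Cfsg.Agent.TitsThree.Siegel Cfsg.Agent.TitsThree.SiegelGen Cfsg.Agent.TitsThree.WittFrame
open Cfsg.Agent.TitsThree.WBridge Cfsg.Agent.TitsThree.KSideU Cfsg.Agent.TitsThree.KSideUDesc
open Cfsg.Agent.TitsThree.FrameCN

universe u

variable {F : Type u} [Field F] {q k l : ℕ}

/-! ### Orthogonal sums -/

/-- the two components -/
def spl (v : Fin (k + l) → F) : Fin k → F := fun i => v (Fin.castAdd l i)
def spr (v : Fin (k + l) → F) : Fin l → F := fun i => v (Fin.natAdd k i)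

theorem append_sp (v : Fin (k + l) → F) : Fin.append (spl v) (spr v) = v := Fin.append_castAdd_natAdd

theorem spl_append (u : Fin k → F) (w : Fin l → F) : spl (Fin.append u w) = u := by
  funext i; exact Fin.append_left _ _ _

theorem spr_append (u : Fin k → F) (w : Fin l → F) : spr (Fin.append u w) = w := by
  funext i; exact Fin.append_right _ _ _

theorem append_add (u u' : Fin k → F) (w w' : Fin l → F) :
    Fin.append (u + u') (w + w') = Fin.append u w + Fin.append u' w' := by
  funext i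
  refine Fin.addCases (fun i => ?_) (fun i => ?_) i
  · simp [Fin.append_left]
  · simp [Fin.append_right]

theorem append_smul (c : F) (u : Fin k → F) (w : Fin l → F) :
    Fin.append (c • u) (c • w) = c • Fin.append u w := by
  funext i
  refine Fin.addCases (fun i => ?_) (fun i => ?_) i
  · simp [Fin.append_left]
  · simp [Fin.append_right]

theorem herm_append (u u' : Fin k → F) (w w' : Fin l → F) :
    hermForm (k + l) F q (Fin.append u w) (Fin.append u' w') = hermForm k F q u u' + hermForm l F q w w' := by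
  unfold hermForm
  rw [Fin.sum_univ_add]
  simp [Fin.append_left, Fin.append_right]

/-- the inclusion of the first summand -/
def inn (l : ℕ) : (Fin k → F) →ₗ[F] (Fin (k + l) → F) where
  toFun u := Fin.append u 0
  map_add' u v := by rw [← append_add, add_zero]
  map_smul' c u := by rw [RingHom.id_apply, ← append_smul, smul_zero]

/-- the inclusion of the second summand -/
def out (k : ℕ) : (Fin l → F) →ₗ[F] (Fin (k + l) → F) where
  toFun u := Fin.append 0 u
  map_add' u v := by rw [← append_add, add_zero]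
  map_smul' c u := by rw [RingHom.id_apply, ← append_smul, smul_zero]

theorem inn_apply (u : Fin k → F) : inn l u = Fin.append u 0 := rfl
theorem out_apply (u : Fin l → F) : out k u = Fin.append 0 u := rfl

theorem inn_injective : Function.Injective (inn (F := F) (k := k) l) := by
  intro u v h
  have := congrArg spl h
  rwa [inn_apply, inn_apply, spl_append, spl_append] at this

/-- the embedding of the linear groups -/
def emb (F : Type u) [Field F] (k l : ℕ) :
    ((Fin k → F) ≃ₗ[F] (Fin k → F)) →* ((Fin (k + l) → F) ≃ₗ[F] (Fin (k + l) → F)) where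
  toFun g :=
    { toFun := fun v => Fin.append (g (spl v)) (spr v)
      invFun := fun v => Fin.append (g.symm (spl v)) (spr v)
      map_add' := fun u v => by
        rw [← append_add]
        congr 1
        exact map_add g _ _
      map_smul' := fun c v => by
        rw [RingHom.id_apply, ← append_smul]
        congr 1
        exact map_smul g _ _
      left_inv := fun v => by
        simp only [spl_append, spr_append, LinearEquiv.symm_apply_apply, append_sp]
      right_inv := fun v => by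
        simp only [spl_append, spr_append, LinearEquiv.apply_symm_apply, append_sp] }
  map_one' := by
    ext1 v
    exact append_sp v
  map_mul' g h := by
    ext1 v
    show Fin.append (g (h (spl v))) (spr v) = Fin.append (g (spl (Fin.append (h (spl v)) (spr v)))) (spr (Fin.append _ _))
    rw [spl_append, spr_append]

theorem emb_apply (g : (Fin k → F) ≃ₗ[F] (Fin k → F)) (v : Fin (k + l) → F) :
    emb F k l g v = Fin.append (g (spl v)) (spr v) := rfl

variable [Fintype F] (hF : Fintype.card F = q ^ 2)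

theorem h_inn (u : Fin k → F) (v : Fin (k + l) → F) : hermForm (k + l) F q (inn l u) v = hermForm k F q u (spl v) := by
  conv_lhs => rw [← append_sp v]
  rw [inn_apply, herm_append, herm_zero_left, add_zero]

include hF in
theorem h_inn' (u : Fin k → F) (v : Fin (k + l) → F) : hermForm (k + l) F q v (inn l u) = hermForm k F q (spl v) u := by
  conv_lhs => rw [← append_sp v]
  rw [inn_apply, herm_append, herm_zero_right hF, add_zero]

theorem h_inn_inn (u v : Fin k → F) : hermForm (k + l) F q (inn l u) (inn l v) = hermForm k F q u v := by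
  rw [h_inn, inn_apply, spl_append]

theorem ok_inn {w : Fin k → F} {c : F} (h : (PU hF k).ok w c) : (PU hF (k + l)).ok (inn l w) c := by
  rw [ok_iff] at h ⊢
  rw [h_inn_inn]
  exact h

theorem emb_sie {u w : Fin k → F} {c : F} (huu : (HU hF k).h u u = 0) (huw : (HU hF k).h u w = 0)
    (huu' : (HU hF (k + l)).h (inn l u) (inn l u) = 0) (huw' : (HU hF (k + l)).h (inn l u) (inn l w) = 0) :
    emb F k l ((HU hF k).sie u w c huu huw) = (HU hF (k + l)).sie (inn l u) (inn l w) c huu' huw' := by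
  ext1 v
  rw [emb_apply, HForm.sie_apply, HForm.sie_apply]
  simp only [HU_h, HU_ε, h_inn' hF]
  conv_rhs => rw [← append_sp v]
  rw [spl_append]
  simp only [inn_apply, ← append_smul, smul_zero]
  have hsub : ∀ (a b : Fin k → F) (c d : Fin l → F), Fin.append a c - Fin.append b d = Fin.append (a - b) (c - d) := by
    intro a b c d
    rw [sub_eq_iff_eq_add, ← append_add, sub_add_cancel, sub_add_cancel]
  rw [← append_add, hsub, ← append_add]
  simp

/-! ### The frame -/

section Frm

variable {a m : ℕ} (W1 : WFrame (PU hF l) a) (W2 : WFrame (PU hF k) m)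

/-- the vectors `e` of the sum -/
def ce (e1 : Fin a → (Fin l → F)) (e2 : Fin m → (Fin k → F)) : Fin (a + m) → (Fin (k + l) → F) :=
  Fin.append (fun i => out k (e1 i)) (fun j => inn l (e2 j))

theorem ce_left (e1 : Fin a → (Fin l → F)) (e2 : Fin m → (Fin k → F)) (i : Fin a) :
    ce e1 e2 (Fin.castAdd m i) = out k (e1 i) := Fin.append_left _ _ _

theorem ce_right (e1 : Fin a → (Fin l → F)) (e2 : Fin m → (Fin k → F)) (i : Fin m) :
    ce e1 e2 (Fin.natAdd a i) = inn l (e2 i) := Fin.append_right _ _ _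

theorem h_out_out (u v : Fin l → F) : hermForm (k + l) F q (out k u) (out k v) = hermForm l F q u v := by
  rw [out_apply, out_apply, herm_append, herm_zero_left, zero_add]

include hF in
theorem h_inn_out (u : Fin k → F) (v : Fin l → F) : hermForm (k + l) F q (inn l u) (out k v) = 0 := by
  rw [h_inn, out_apply, spl_append]
  unfold hermForm
  refine Finset.sum_eq_zero fun i _ => ?_
  rw [Pi.zero_apply, zero_pow_q hF, mul_zero]

include hF in
theorem h_out_inn (u : Fin l → F) (v : Fin k → F) : hermForm (k + l) F q (out k u) (inn l v) = 0 := by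
  rw [h_inn' hF, out_apply, spl_append, herm_zero_left]

/-- the frame of the sum -/
def comb (hW : W1.V0 = ⊥) : WFrame (PU hF (k + l)) (a + m) where
  e := ce W1.e W2.e
  f := ce W1.f W2.f
  V0 := W2.V0.map (inn l)
  ee i j := by
    rw [HU_h]
    refine Fin.addCases (fun i => ?_) (fun i => ?_) i <;> refine Fin.addCases (fun j => ?_) (fun j => ?_) j
    · rw [ce_left, ce_left, h_out_out]; exact W1.ee i j
    · rw [ce_left, ce_right, h_out_inn hF]
    · rw [ce_left, ce_right, h_inn_out hF]
    · rw [ce_right, ce_right, h_inn_inn]; exact W2.ee i j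
  ff i j := by
    rw [HU_h]
    refine Fin.addCases (fun i => ?_) (fun i => ?_) i <;> refine Fin.addCases (fun j => ?_) (fun j => ?_) j
    · rw [ce_left, ce_left, h_out_out]; exact W1.ff i j
    · rw [ce_left, ce_right, h_out_inn hF]
    · rw [ce_left, ce_right, h_inn_out hF]
    · rw [ce_right, ce_right, h_inn_inn]; exact W2.ff i j
  ef i j := by
    rw [HU_h]
    refine Fin.addCases (fun i => ?_) (fun i => ?_) i <;> refine Fin.addCases (fun j => ?_) (fun j => ?_) j
    · rw [ce_left, ce_left, h_out_out]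
      have := W1.ef i j
      rw [HU_h] at this
      rw [this]
      simp
    · rw [ce_left, ce_right, h_out_inn hF, if_neg]
      intro h
      have := congrArg Fin.val h
      simp at this
      omega
    · rw [ce_left, ce_right, h_inn_out hF, if_neg]
      intro h
      have := congrArg Fin.val h
      simp at this
      omega
    · rw [ce_right, ce_right, h_inn_inn]
      have := W2.ef i j
      rw [HU_h] at this
      rw [this]
      simp
  fe i j := by
    rw [HU_h]
    refine Fin.addCases (fun i => ?_) (fun i => ?_) i <;> refine Fin.addCases (fun j => ?_) (fun j => ?_) j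
    · rw [ce_left, ce_left, h_out_out]
      have := W1.fe i j
      rw [HU_h] at this
      rw [this]
      simp [HU_ε]
    · rw [ce_left, ce_right, h_out_inn hF, if_neg]
      intro h
      have := congrArg Fin.val h
      simp at this
      omega
    · rw [ce_left, ce_right, h_inn_out hF, if_neg]
      intro h
      have := congrArg Fin.val h
      simp at this
      omega
    · rw [ce_right, ce_right, h_inn_inn]
      have := W2.fe i j
      rw [HU_h] at this
      rw [this]
      simp [HU_ε]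
  e_sing i := by
    rw [sing_iff]
    refine Fin.addCases (fun i => ?_) (fun i => ?_) i
    · rw [ce_left, h_out_out]; exact (sing_iff hF).1 (W1.e_sing i)
    · rw [ce_right, h_inn_inn]; exact (sing_iff hF).1 (W2.e_sing i)
  f_sing i := by
    rw [sing_iff]
    refine Fin.addCases (fun i => ?_) (fun i => ?_) i
    · rw [ce_left, h_out_out]; exact (sing_iff hF).1 (W1.f_sing i)
    · rw [ce_right, h_inn_inn]; exact (sing_iff hF).1 (W2.f_sing i)
  V0e w hw i := by
    obtain ⟨v, hv, rfl⟩ := hw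
    rw [HU_h]
    refine Fin.addCases (fun i => ?_) (fun i => ?_) i
    · rw [ce_left, h_inn_out hF]
    · rw [ce_right, h_inn_inn]; exact W2.V0e v hv i
  V0f w hw i := by
    obtain ⟨v, hv, rfl⟩ := hw
    rw [HU_h]
    refine Fin.addCases (fun i => ?_) (fun i => ?_) i
    · rw [ce_left, h_inn_out hF]
    · rw [ce_right, h_inn_inn]; exact W2.V0f v hv i
  aniso w hw hs := by
    obtain ⟨v, hv, rfl⟩ := hw
    rw [sing_iff, h_inn_inn] at hs
    rw [W2.aniso v hv ((sing_iff hF).2 hs), map_zero]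
  span v := by
    obtain ⟨a1, b1, w1, hw1, h1⟩ := W1.span (spr v)
    obtain ⟨a2, b2, w2, hw2, h2⟩ := W2.span (spl v)
    rw [hW] at hw1
    have hw1' : w1 = 0 := (Submodule.mem_bot F).1 hw1
    subst hw1'
    refine ⟨Fin.append a1 a2, Fin.append b1 b2, inn l w2, ⟨w2, hw2, rfl⟩, ?_⟩
    rw [Fin.sum_univ_add, Fin.sum_univ_add]
    simp only [Fin.append_left, Fin.append_right, ce_left, ce_right]
    have h3 : v = out k (spr v) + inn l (spl v) := by
      rw [out_apply, inn_apply, ← append_add, zero_add, add_zero, append_sp]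
    rw [h3]
    conv_lhs => rw [h1, h2]
    simp only [map_add, map_sum, map_smul, add_zero]
    abel

theorem comb_b (hW : W1.V0 = ⊥) (j : Fin m) (s : Bool) :
    (toFrame (comb hF W1 W2 hW)).b (Fin.natAdd a j, s) = inn l ((toFrame W2).b (j, s)) := by
  cases s
  · exact ce_right _ _ _
  · exact ce_right _ _ _

theorem emb_X (hW : W1.V0 = ⊥) (i j : Fin m) (s t : Bool) (c : F) :
    emb F k l ((toFrame W2).X (i, s) (j, t) c) =
      (toFrame (comb hF W1 W2 hW)).X (Fin.natAdd a i, s) (Fin.natAdd a j, t) c := by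
  by_cases h : i = j
  · subst h
    rw [Frame.X, dif_neg (by simp), Frame.X, dif_neg (by simp), map_one]
  · have h1 : ((i, s) : Fin m × Bool).1 ≠ ((j, t) : Fin m × Bool).1 := h
    have h2 : ((Fin.natAdd a i, s) : Fin (a + m) × Bool).1 ≠ ((Fin.natAdd a j, t) : Fin (a + m) × Bool).1 := by
      intro h3
      apply h
      have := congrArg Fin.val h3
      simp at this
      exact Fin.ext this
    rw [Frame.X_eq _ h1, Frame.X_eq _ h2]
    have e1 : (toFrame (comb hF W1 W2 hW)).sc (Fin.natAdd a j, t) c • (toFrame (comb hF W1 W2 hW)).b (Fin.natAdd a j, t) =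
        inn l ((toFrame W2).sc (j, t) c • (toFrame W2).b (j, t)) := by
      rw [map_smul, comb_b hF]
      rfl
    rw [emb_sie hF _ _ (by rw [HU_h, h_inn_inn]; exact (toFrame W2).hb_self (i, s))
      (by rw [HU_h, h_inn_inn]; exact (toFrame W2).h_smul_b h1 _)]
    exact HForm.sie_congr _ _ _ _ _ (comb_b hF W1 W2 hW i s).symm e1.symm rfl

/-- the admissible pair -/
def adm (hW : W1.V0 = ⊥) (p : (toFrame W2).Adm) : (toFrame (comb hF W1 W2 hW)).Adm :=
  ⟨inn l p.w, p.c, ⟨⟨p.w, p.ok.1, rfl⟩, ok_inn hF p.ok.2⟩⟩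

theorem adm_surj (hW : W1.V0 = ⊥) (p : (toFrame (comb hF W1 W2 hW)).Adm) : ∃ p', adm hF W1 W2 hW p' = p := by
  obtain ⟨w, c, ⟨v, hv, rfl⟩, hc⟩ := p
  refine ⟨⟨v, c, hv, ?_⟩, rfl⟩
  rw [ok_iff] at hc ⊢
  rw [h_inn_inn] at hc
  exact hc

theorem emb_Z (hW : W1.V0 = ⊥) (i : Fin m) (s : Bool) (p : (toFrame W2).Adm) :
    emb F k l ((toFrame W2).Z (i, s) p) =
      (toFrame (comb hF W1 W2 hW)).Z (Fin.natAdd a i, s) (adm hF W1 W2 hW p) := by
  rw [Frame.Z, Frame.Z]
  rw [emb_sie hF _ _ (by rw [HU_h, h_inn_inn]; exact (toFrame W2).hb_self (i, s))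
      (by rw [HU_h, h_inn_inn]; exact (toFrame W2).h0 (i, s) _ ((toFrame W2).ok_mem p.ok))]
  exact HForm.sie_congr _ _ _ _ _ (comb_b hF W1 W2 hW i s).symm rfl rfl

end Frm

/-! ### The homomorphism `SU_k → PSU_(k+l)` -/

section Psi

variable (hk : 3 ≤ k)

include hF hk in
theorem emb_mem (l : ℕ) (A : SU k F q) : emb F k l (toLin F q k A) ∈ IU F q (k + l) := by
  have hK : ((IU F q (k + l)).comap ((emb F k l).comp (toLin F q k))) = ⊤ := by
    refine eq_top_of_sie hF hk _ fun u w c huu huw hok => ?_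
    obtain ⟨g, hg⟩ := sie_mem hF huu huw hok
    refine ⟨g, ?_, hg⟩
    rw [SetLike.mem_coe, Subgroup.mem_comap, MonoidHom.comp_apply, hg,
      emb_sie hF huu huw (by rw [HU_h, h_inn_inn]; exact huu) (by rw [HU_h, h_inn_inn]; exact huw)]
    exact sie_mem hF _ _ (ok_inn hF hok)
  have h1 : A ∈ ((IU F q (k + l)).comap ((emb F k l).comp (toLin F q k))) := hK ▸ Subgroup.mem_top A
  exact h1

/-- the embedding of the special unitary group -/
noncomputable def emb' (l : ℕ) : SU k F q →* IU F q (k + l) :=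
  ((emb F k l).comp (toLin F q k)).codRestrict (IU F q (k + l)) (emb_mem hF hk l)

/-- the homomorphism into the projective group -/
noncomputable def psi (l : ℕ) : SU k F q →* PSU (k + l) F q := (toPSU F q (k + l)).comp (emb' hF hk l)

theorem psi_apply (l : ℕ) (A : SU k F q) {g : (Fin (k + l) → F) ≃ₗ[F] (Fin (k + l) → F)} (hg : g ∈ IU F q (k + l))
    (e : emb F k l (toLin F q k A) = g) : psi hF hk l A = toPSU F q (k + l) ⟨g, hg⟩ := by
  subst e
  rfl

theorem psi_injective (hl : 0 < l) : Function.Injective (psi hF hk l) := by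
  rw [injective_iff_map_eq_one]
  intro A hA
  obtain ⟨c, hc⟩ := scalar_of_toPSU_eq_one hF (by omega) _ hA
  have hc' : ∀ v, emb F k l (toLin F q k A) v = c • v := hc
  have h1 : c = 1 := by
    have h2 := congrArg spr (hc' (Fin.append 0 (fun _ => 1)))
    rw [emb_apply, spr_append, spr_append, ← append_smul, spr_append] at h2
    have h3 := congrFun h2 ⟨0, hl⟩
    simpa using h3.symm
  subst h1
  apply toLin_injective
  rw [map_one]
  ext1 u
  have h2 := congrArg spl (hc' (Fin.append u 0))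
  rwa [emb_apply, spl_append, spl_append, one_smul, spl_append] at h2

end Psi

/-! ### The middle Levi subgroup -/

section Levi

open Cfsg.Agent.ChevalleyStructure.CoxeterGeom Cfsg.Agent.Tits.Roots Cfsg.Agent.Nodes.TypeC
open Cfsg.Agent.Nodes.Comb Cfsg.Agent.Nodes.Reps Cfsg.Agent.Nodes.WittRoot Cfsg.Agent.Nodes.BNOf
open Cfsg.Agent.Nodes.WittRGD Cfsg.Agent.Nodes.RGDLib Cfsg.Agent.Nodes.StabComb Cfsg.Agent.Nodes.WittModel
open Cfsg.Agent.TitsThree Cfsg.Agent.H53.HC

theorem ee_apply_eq_zero {n a : ℕ} {x : Fin n → ℤ} (h : ∀ j : Fin n, (j : ℕ) < a → x j = 0) {i : Fin n}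
    (hi : (i : ℕ) < a) : ee x i = 0 := by
  unfold ee
  rw [Finset.sum_apply]
  refine Finset.sum_eq_zero fun j _ => ?_
  rw [Pi.smul_apply]
  by_cases hj : (j : ℕ) < a
  · rw [h j hj, zero_smul]
  · have h1 : bt j i = 0 := by
      unfold bt
      rw [Pi.add_apply, wt_apply, wt_apply, if_neg (fun e => by rw [e] at hi; exact hj hi), if_neg, add_zero]
      intro e
      unfold nx at e
      split_ifs at e with h2
      · rw [e] at hi
        simp at hi
        omega
      · rw [e] at hi
        exact hj hi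
    rw [h1, smul_zero]

theorem fst_ge {n a : ℕ} {x : Fin n → ℤ} (h : ∀ j : Fin n, (j : ℕ) < a → x j = 0) {b c : Fin n × Bool}
    (hbc : Ok b c) (e : ee x = wt b + wt c) : a ≤ (b.1 : ℕ) := by
  by_contra hb
  push Not at hb
  have h1 := congrFun e b.1
  rw [ee_apply_eq_zero h hb, Pi.add_apply, wt_apply, wt_apply, if_pos rfl] at h1
  rcases hbc with h2 | rfl
  · rw [if_neg h2] at h1
    split_ifs at h1 <;> omega
  · rw [if_pos rfl] at h1
    split_ifs at h1 <;> omega

theorem exists_natAdd {a m : ℕ} (b : Fin (a + m) × Bool) (hb : a ≤ (b.1 : ℕ)) :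
    ∃ b' : Fin m × Bool, b = (Fin.natAdd a b'.1, b'.2) := by
  refine ⟨(⟨(b.1 : ℕ) - a, by have := b.1.2; omega⟩, b.2), ?_⟩
  ext
  · simp; omega
  · rfl

variable {a m : ℕ} (W1 : WFrame (PU hF l) a) (W2 : WFrame (PU hF k) m) (hk : 3 ≤ k)
  {W : Type*} [Group W] (cs : CoxeterSystem (CoxeterMatrix.B (a + m)) W)

/-- the last nodes -/
def JJ (a m : ℕ) : Set (Fin (a + m)) := {i | a ≤ (i : ℕ)}

/-- the model -/
noncomputable def Mo (hW : W1.V0 = ⊥) : FrameCN.Model (toFrame (comb hF W1 W2 hW)) (PSU (k + l) F q) :=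
  KInstU.model hF (by omega) (comb hF W1 W2 hW)

theorem mj_le (hW : W1.V0 = ⊥) :
    MJ cs (isCartan (a + m)) (X (Mo hF W1 W2 hk hW)) (JJ a m) ≤ (psi hF hk l).range := by
  refine iSup_le ?_
  rintro ⟨x, hx, hx0⟩ y hy
  obtain ⟨g, hg, hgx, rfl⟩ := (mem_X _).1 hy
  have hx0' : ∀ j : Fin (a + m), (j : ℕ) < a → x j = 0 := fun j hj => hx0 j fun h => by
    have : a ≤ (j : ℕ) := h
    omega
  obtain ⟨b, c, hbc, e⟩ := isRoot_iff.1 hx
  obtain ⟨⟨i, s⟩, rfl⟩ := exists_natAdd b (fst_ge hx0' hbc e)
  obtain ⟨⟨j, t⟩, rfl⟩ := exists_natAdd c (fst_ge hx0' hbc.symm (e.trans (add_comm _ _)))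
  have key : ∃ A : SU k F q, emb F k l (toLin F q k A) = g := by
    rw [rg_eq _ hbc e] at hgx
    rcases hbc with h | h
    · rw [PG_ne _ h] at hgx
      obtain ⟨r, rfl⟩ := hgx
      obtain ⟨A, hA⟩ := X_mem hF W2 (i, s) (j, t) r
      exact ⟨A, by rw [hA, emb_X]⟩
    · rw [← h, PG_self] at hgx
      obtain ⟨r, rfl⟩ := hgx
      obtain ⟨r', rfl⟩ := adm_surj hF W1 W2 hW r
      obtain ⟨A, hA⟩ := Z_mem hF W2 (i, s) r'
      exact ⟨A, by rw [hA, emb_Z]⟩
  obtain ⟨A, hA⟩ := key
  exact ⟨A, psi_apply hF hk l A hg hA⟩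

theorem le_mj (hW : W1.V0 = ⊥) (hm : 0 < m) :
    (psi hF hk l).range ≤ MJ cs (isCartan (a + m)) (X (Mo hF W1 W2 hk hW)) (JJ a m) := by
  set K := MJ cs (isCartan (a + m)) (X (Mo hF W1 W2 hk hW)) (JJ a m) with hKdef
  have hs1 : ∀ i : Fin m, X (Mo hF W1 W2 hk hW) (sr (Fin.natAdd a i)) ≤ K := fun i =>
    RGD.le_Sup ⟨isRoot_sr cs _ _, fun k hk => sr_ne (by rintro rfl; exact hk (by simp [JJ]))⟩
  have hs2 : ∀ i : Fin m, X (Mo hF W1 W2 hk hW) (-sr (Fin.natAdd a i)) ≤ K := fun i =>
    RGD.le_Sup (RootsJ.neg ⟨isRoot_sr cs _ _, fun k hk => sr_ne (by rintro rfl; exact hk (by simp [JJ]))⟩)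
  have hmem : ∀ (g : (Fin k → F) ≃ₗ[F] (Fin k → F)) (hg : g ∈ IU F q k) (hg' : emb F k l g ∈ IU F q (k + l)),
      toPSU F q (k + l) ⟨emb F k l g, hg'⟩ ∈ K → g ∈ (K.comap (psi hF hk l)).map (toLin F q k) := by
    rintro g ⟨A, rfl⟩ hg' h
    refine ⟨A, ?_, rfl⟩
    rw [SetLike.mem_coe, Subgroup.mem_comap, psi_apply hF hk l A hg' rfl]
    exact h
  have hemb : ∀ g ∈ IU F q k, emb F k l g ∈ IU F q (k + l) := by
    rintro _ ⟨A, rfl⟩
    exact emb_mem hF hk l A
  have hC : W2.Contains ((K.comap (psi hF hk l)).map (toLin F q k)) := by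
    refine contains_C W2 ⟨m - 1, by omega⟩ (fun i j hij t => ?_) (fun p => ?_) (exists_adm_ne hF W2)
    · have hi : ((Fin.natAdd a i : Fin (a + m)) : ℕ) + 1 < a + m := by have := j.2; simp; omega
      have hnx : nx (Fin.natAdd a i) = (Fin.natAdd a j, false) := by
        unfold nx; rw [dif_pos hi]
        congr 1
        exact Fin.ext (by simp; omega)
      have hne : ((Fin.natAdd a i, true) : Fin (a + m) × Bool).1 ≠ (nx (Fin.natAdd a i)).1 := by
        rw [hnx]; simp [Fin.ext_iff]; omega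
      refine ⟨hmem _ (X_mem hF W2 _ _ t) (hemb _ (X_mem hF W2 _ _ t)) (hs1 i (mem_X_of _ _ ?_)),
        hmem _ (X_mem hF W2 _ _ t) (hemb _ (X_mem hF W2 _ _ t)) (hs2 i (mem_X_of _ _ ?_))⟩
      · rw [rg_sr, PG_ne _ hne, hnx, emb_X hF W1 W2 hW]; exact ⟨t, rfl⟩
      · rw [rg_neg_sr, PG_ne _ (a := ng (Fin.natAdd a i, true)) (b := ng (nx (Fin.natAdd a i))) hne,
          XG_swap _ (a := ng (Fin.natAdd a i, true)) (b := ng (nx (Fin.natAdd a i))) hne, hnx, emb_X hF W1 W2 hW]
        exact ⟨t, rfl⟩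
    · have hnx : nx (Fin.natAdd a (⟨m - 1, by omega⟩ : Fin m)) = (Fin.natAdd a (⟨m - 1, by omega⟩ : Fin m), true) := by
        unfold nx; rw [dif_neg (by simp; omega)]
      refine ⟨hmem _ (Z_mem hF W2 _ p) (hemb _ (Z_mem hF W2 _ p)) (hs1 ⟨m - 1, by omega⟩ (mem_X_of _ _ ?_)),
        hmem _ (Z_mem hF W2 _ p) (hemb _ (Z_mem hF W2 _ p)) (hs2 ⟨m - 1, by omega⟩ (mem_X_of _ _ ?_))⟩
      · rw [rg_sr, hnx, PG_self, emb_Z hF W1 W2 hW]; exact ⟨_, rfl⟩
      · rw [rg_neg_sr, hnx, PG_self, emb_Z hF W1 W2 hW]; exact ⟨_, rfl⟩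
  have htop : K.comap (psi hF hk l) = ⊤ :=
    eq_top_of_sie hF hk _ fun u w c huu huw hok => hC.all W2 ((sing_iff hF).2 huu) huu huw hok
  rintro _ ⟨A, rfl⟩
  have h1 : A ∈ K.comap (psi hF hk l) := htop ▸ Subgroup.mem_top A
  exact h1

theorem mj_eq (hW : W1.V0 = ⊥) (hm : 0 < m) :
    MJ cs (isCartan (a + m)) (X (Mo hF W1 W2 hk hW)) (JJ a m) = (psi hF hk l).range :=
  le_antisymm (mj_le hF W1 W2 hk cs hW) (le_mj hF W1 W2 hk cs hW hm)

end Levi

end Cfsg.Agent.H697.EP.Mid
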