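import Cfsg.Agent.H697.EP.PsuWeil
import Cfsg.Agent.H697.EP.PsuMid
import Cfsg.Agent.H537.EP.OfMJ
import Cfsg.Agent.H892.EP.Rows

/-!
# S4929: `PSU_n(q)`, `n` odd, `e = ord_p(-q)` odd, `n < 2 e` (helper697)

`good_psu_mid` : from `SU_k(q)` to `PSU_n(q)`, `n - k` even; `rest_psu_odd`.
-/

set_option autoImplicit false
set_option linter.unusedSectionVars false

namespace Cfsg.Agent.H697.EP

open Cfsg Cfsg.Agent.H892.EP Cfsg.Agent.Characters.Core
open Cfsg.Agent.TitsThree.KSideU Cfsg.Agent.TitsThree.SiegelGen Cfsg.Agent.TitsThree.WBridge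
open Cfsg.Agent.Nodes.TypeC Cfsg.Agent.LieClassical.SUBasic

variable {F : Type} [Field F] [Fintype F] {r : ℕ} [Fact r.Prime] [CharP F r] {p : ℕ} [Fact p.Prime] {n q : ℕ}

/-- the centre of `SU_n(q)` is a `p'`-group, if `p ∤ q + 1` -/
theorem not_dvd_center (hF : Fintype.card F = q ^ 2) (hn : 3 ≤ n) (hp : ¬ p ∣ q + 1) :
    ¬ p ∣ Nat.card (Subgroup.center (SU n F q)) := by
  intro hd
  obtain ⟨z, hz⟩ := exists_prime_orderOf_dvd_card' p hd
  have hpp : p.Prime := Fact.out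
  obtain ⟨c, hcn, hcq, hA⟩ := (mem_center_SU_iff hF hn _).1 z.2
  apply hp
  have h1 : (z : SU n F q) ^ (q + 1) = 1 := by
    apply toLin_injective
    rw [map_pow, map_one]
    have h2 : ∀ v, toLin F q n (z : SU n F q) v = c • v := by
      intro v
      rw [Cfsg.Agent.TitsThree.KSideU.toLin_apply, hA, Cfsg.Agent.LieClassical.HermSiegel.act_def]
      change Matrix.mulVec (Matrix.diagonal (fun _ => c)) v = c • v
      funext i
      rw [Matrix.mulVec_diagonal]; rfl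
    have h3 : ∀ (j : ℕ) v, ((toLin F q n (z : SU n F q)) ^ j) v = c ^ j • v := by
      intro j
      induction j with
      | zero => intro v; rw [pow_zero, pow_zero, one_smul]; rfl
      | succ j ih =>
        intro v
        rw [pow_succ', LinearEquiv.mul_apply, ih, h2, smul_smul, ← pow_succ']
    ext1 v
    rw [h3, hcq, one_smul]
    rfl
  have h2 : z ^ (q + 1) = 1 := Subtype.ext h1
  rw [← hz]
  exact orderOf_dvd_of_pow_eq_one h2

/-- from `SU_n(q)` to `PSU_n(q)` -/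
theorem good_psu_self (hF : Fintype.card F = q ^ 2) (hn : 3 ≤ n) (hp : ¬ p ∣ q + 1) (h : Good p r (SU n F q)) :
    Good p r (PSU n F q) := by
  refine Good.quot (QuotientGroup.mk' (Subgroup.center (SU n F q))) (QuotientGroup.mk'_surjective _) ?_ h
  rw [QuotientGroup.ker_mk']
  exact not_dvd_center hF hn hp

/-- **The middle Levi subgroups of `PSU_n(q)`.** -/
theorem good_psu_mid (hr : r ≠ 2) (hF : Fintype.card F = q ^ 2) {k : ℕ} (hk : 3 ≤ k) (hkn : k ≤ n) (he : Even (n - k))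
    (hp : ¬ p ∣ q + 1) (h : Good p r (SU k F q)) : Good p r (PSU n F q) := by
  obtain ⟨l, rfl⟩ : ∃ l, n = k + l := ⟨n - k, by omega⟩
  rw [Nat.add_sub_cancel_left] at he
  rcases Nat.eq_zero_or_pos l with rfl | hl
  · exact good_psu_self hF hk hp h
  obtain ⟨a, ha⟩ := he
  obtain ⟨W1, hW1⟩ := exists_wframe_even (N := l) (m := a) hF (by omega)
  obtain ⟨m, hm, W2, -⟩ : ∃ m, 0 < m ∧ ∃ W2 : WFrame (PU hF k) m, True := by
    rcases Nat.even_or_odd' k with ⟨m, hm | hm⟩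
    · obtain ⟨W2, -⟩ := exists_wframe_even (N := k) (m := m) hF hm
      exact ⟨m, by omega, W2, trivial⟩
    · obtain ⟨W2, -⟩ := exists_wframe_odd (N := k) (m := m) hF hm
      exact ⟨m, by omega, W2, trivial⟩
  obtain ⟨p0, hp0, -⟩ := Cfsg.Agent.Nodes.WittU.exists_adm hF (Mid.comb hF W1 W2 hW1)
  have R := Cfsg.Agent.Nodes.WittModel.rgd (Mid.Mo hF W1 W2 hk hW1)
    (Cfsg.Agent.Nodes.WittU.amb_U hF (Mid.comb hF W1 W2 hW1)) ((Fact.out : r.Prime).odd_of_ne_two hr) hp0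
    (CoxeterMatrix.B (a + m)).toCoxeterSystem
  have : Finite (CoxeterMatrix.B (a + m)).Group := finite_W (CoxeterMatrix.B (a + m)).toCoxeterSystem
  refine Cfsg.Agent.H537.EP.good_of_MJ R (Cfsg.Agent.Nodes.WittModel.G1_eq_top _ (by omega) _) (Mid.JJ a m) ?_
  rw [Mid.mj_eq hF W1 W2 hk _ hW1 hm]
  exact h.congr (MonoidHom.ofInjective (Mid.psi_injective hF hk hl))

theorem not_dvd_succ {e : ℕ} (he3 : 3 ≤ e) (h2 : ∀ i, 0 < i → i < e → ¬ p ∣ q ^ (2 * i) - 1) : ¬ p ∣ q + 1 := by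
  intro h3
  refine h2 1 one_pos (by omega) ?_
  have h4 : q ^ (2 * 1) - 1 = (q + 1) * (q - 1) := by
    rw [mul_one]
    have := Nat.sq_sub_sq q 1
    simpa using this
  rw [h4]
  exact dvd_mul_of_dvd_left h3 _

/-- the Weil character: `PSU_n(q)`, `n` odd -/
theorem good_psu_odd (hr : r ≠ 2) (hpr : p ≠ r) {e : ℕ} (hq : Fintype.card F = q ^ 2)
    (he : Odd e) (he3 : 3 ≤ e) (hen : e ≤ n) (hno : Odd n) (h1 : p ∣ q ^ e + 1)
    (h2 : ∀ i, 0 < i → i < e → ¬ p ∣ q ^ (2 * i) - 1) : Good p r (PSU n F q) :=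
  good_psu_mid hr hq he3 hen (Nat.Odd.sub_odd hno he) (not_dvd_succ he3 h2) (good_su hq he he3 hpr h1 h2)

/-- **Task [REST-PSU-ODD]**, from the parity row `pu_psu`. -/
theorem rest_psu_odd_of (hpar : ParU r (PSU n F q)) (hr : r ≠ 2) (hpr : p ≠ r) {e : ℕ}
    (hq : Fintype.card F = q ^ 2) (he : Odd e) (he3 : 3 ≤ e) (hen : e ≤ n) (hno : Odd n) (h1 : p ∣ q ^ e + 1)
    (h2 : ∀ i, 0 < i → i < e → ¬ p ∣ q ^ (2 * i) - 1) : EvAt p (PSU n F q) :=
  evAt_of_good (par_of_parU hpar) (good_psu_odd hr hpr hq he he3 hen hno h1 h2)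

end Cfsg.Agent.H697.EP
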