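import Cfsg.Agent.H697.EP.PsuOdd
import Cfsg.Agent.ClassicalGeometry.HermLines4

/-!
# S4929: `PSU_n(q)`, `n` even, `e = ord_p(-q) ≥ 5` odd: a theta lift from `GU_3(q)` (helper697)

* `good_of_theta` : abstract criterion (multiplicity of a character of `H` in a character of `G × H`);
* `weil_isCharacter` : `g ↦ -(-q) ^ dim ker (g - 1)` is a character of the unitary group in odd dimension;
* `gauss` : Gauss sums of (degenerate) hermitian forms;
* `iG` : `GU(V) × GU_d → GU(V ⊗ F^d ⊕ F)`; `exists_scal`, `thl_sing` : the `p`-singular elements;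
* `sgH` : the Siegel radical; `finrank_Fx_sg` : the fixed space of `z ⊗ k`; `sum_sg_zero`;
* `good_UU_even`, `good_su_even`, `good_psu_even`, `rest_psu_even_of5`.
-/

set_option autoImplicit false
set_option linter.unusedSectionVars false

open Cfsg
open scoped ComplexConjugate

namespace Cfsg.Agent.H697.EP

open Module Cfsg.Agent.H603.CC Cfsg.Agent.H892.EP Cfsg.Agent.Characters.Core

universe u v


section Abs

variable {G H U : Type*} [Group G] [Group H] [Group U] [Finite G] [Finite H] [Finite U]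

/-- the multiplicity of `ζ` -/
noncomputable def thl [Fintype H] (i : G × H →* U) (om : U → ℂ) (ζ : H → ℂ) (g : G) : ℂ :=
  ∑ h : H, om (i (g, h)) * conj (ζ h)

theorem thl_class [Fintype H] (i : G × H →* U) {om : U → ℂ} (hom : IsCharacter U om) (ζ : H → ℂ) :
    IsClassFunction G (thl i om ζ) := by
  intro g x
  unfold thl
  refine Finset.sum_congr rfl fun h _ => ?_
  have h1 : i (x * g * x⁻¹, h) = i (x, 1) * i (g, h) * (i (x, 1))⁻¹ := by
    rw [← map_mul, ← map_inv, ← map_mul]
    congr 1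
    ext <;> simp
  rw [h1, isCharacter_isClassFunction hom]

theorem thl_inner [Fintype G] [Fintype H] (i : G × H →* U) {om : U → ℂ} (hom : IsCharacter U om) {ζ : H → ℂ}
    (hζ : IsCharacter H ζ) {χ : G → ℂ} (hχ : IsCharacter G χ) :
    ∃ k : ℕ, classInner (thl i om ζ) χ = k := by
  obtain ⟨k, hk⟩ := classInner_isNat (isCharacter_comp i hom)
    (isCharacter_mul (isCharacter_comp (MonoidHom.fst G H) hχ) (isCharacter_comp (MonoidHom.snd G H) hζ))
  refine ⟨Nat.card H * k, ?_⟩
  rw [Nat.cast_mul, ← hk, classInner_def, classInner_def, Fintype.sum_prod_type, Nat.card_prod, Nat.cast_mul,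
    mul_inv, ← mul_assoc, mul_left_comm, mul_inv_cancel₀ card_ne_zero_complex, mul_one]
  congr 1
  refine Finset.sum_congr rfl fun g _ => ?_
  rw [thl, Finset.sum_mul]
  refine Finset.sum_congr rfl fun h _ => ?_
  simp only [Function.comp_apply, Pi.mul_apply, MonoidHom.coe_fst, MonoidHom.coe_snd, map_mul]
  ring

theorem good_of_theta [Fintype H] (i : G × H →* U) {om : U → ℂ} (hom : IsCharacter U om) {ζ : H → ℂ}
    (hζ : IsCharacter H ζ) {p r : ℕ} [Fact p.Prime] [Fact r.Prime] (N : Subgroup G) (hN : IsPGroup r N)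
    (h1 : ∑ᶠ u : N, thl i om ζ u = 0) {u : G} (hu : orderOf u = p) {c : ℂ} (hc : c ≠ 0)
    (h2 : ∀ x : G, p ∣ orderOf x → thl i om ζ x = c) : Good p r G := by
  classical
  intro M hM
  have := Fintype.ofFinite G
  have := finite_irr (G := G)
  have := Fintype.ofFinite (IrrCharacter G)
  have := Fintype.ofFinite N
  choose k hk using fun χ : IrrCharacter G => thl_inner i hom hζ (isIrr_isCharacter χ.2)
  have hsum : ∀ g, thl i om ζ g = ∑ χ : IrrCharacter G, (k χ : ℂ) * (χ : G → ℂ) g := by
    intro g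
    have h3 := congrFun (classFunction_eq_sum (thl_class i hom ζ)) g
    rw [h3, Finset.sum_apply]
    exact Finset.sum_congr rfl fun χ _ => by rw [Pi.smul_apply, smul_eq_mul, hk]
  -- the section
  set S : Set G := {x : G | ∃ z, IsPPart p x z ∧ IsConj u z} with hS
  have hS1 : ∀ x ∈ S, thl i om ζ x = c := by
    rintro x ⟨z, ⟨y, hy, hcom, -, hyp⟩, hz⟩
    refine h2 x ?_
    have hzo : orderOf z = p := by rw [← orderOf_of_isConj hz, hu]
    have hcop : (orderOf z).Coprime (orderOf y) := by
      rw [hzo]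
      exact ((Fact.out : p.Prime).coprime_iff_not_dvd).2 hyp
    rw [← hy, hcom.orderOf_mul_eq_mul_orderOf_of_coprime hcop, hzo]
    exact dvd_mul_right _ _
  have hS2 : ∑ᶠ x ∈ S, thl i om ζ x ≠ 0 := by
    rw [finsum_mem_congr rfl hS1, finsum_mem_eq_finite_toFinset_sum _ (Set.toFinite _), Finset.sum_const,
      nsmul_eq_mul]
    refine mul_ne_zero ?_ hc
    rw [Nat.cast_ne_zero, Finset.card_ne_zero]
    refine ⟨u, (Set.Finite.mem_toFinset _).2 ⟨u, ⟨1, mul_one u, Commute.one_right u, ⟨1, by rw [hu, pow_one]⟩, ?_⟩,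
      IsConj.refl u⟩⟩
    rw [orderOf_one]
    exact (Fact.out : p.Prime).one_lt.not_ge ∘ Nat.le_of_dvd one_pos
  obtain ⟨χ, hχ0, hχS⟩ : ∃ χ : IrrCharacter G, k χ ≠ 0 ∧ ∑ᶠ x ∈ S, (χ : G → ℂ) x ≠ 0 := by
    by_contra hcon
    push Not at hcon
    apply hS2
    rw [finsum_mem_eq_finite_toFinset_sum _ (Set.toFinite _), Finset.sum_congr rfl fun x _ => hsum x,
      Finset.sum_comm]
    refine Finset.sum_eq_zero fun χ _ => ?_
    rw [← Finset.mul_sum]
    by_cases h3 : k χ = 0
    · rw [h3, Nat.cast_zero, zero_mul]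
    · have h4 := hcon χ h3
      rw [finsum_mem_eq_finite_toFinset_sum _ (Set.toFinite _)] at h4
      rw [h4, mul_zero]
  refine ⟨χ, mem_of_section_sum hM χ u hχS, noFix_sylow χ N hN ?_⟩
  -- the sums over `N` are natural numbers
  have hnat : ∀ ψ : IrrCharacter G, ∃ l : ℕ, ∑ y : N, (ψ : G → ℂ) (y : G) = l := by
    intro ψ
    have h3 : IsCharacter N (fun y : N => (ψ : G → ℂ) (y : G)) := isCharacter_comp N.subtype (isIrr_isCharacter ψ.2)
    obtain ⟨l, hl⟩ := classInner_isNat h3 (isCharacter_one (G := N))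
    refine ⟨Nat.card N * l, ?_⟩
    rw [classInner_def] at hl
    simp only [Pi.one_apply, map_one, mul_one] at hl
    have h4 : (Nat.card N : ℂ) ≠ 0 := card_ne_zero_complex
    rw [Nat.cast_mul, ← hl, mul_inv_cancel_left₀ h4]
  choose l hl using hnat
  rw [finsum_eq_sum_of_fintype] at h1
  have h3 : ∑ ψ : IrrCharacter G, k ψ * l ψ = 0 := by
    have h4 : ∑ y : N, thl i om ζ (y : G) = ∑ ψ : IrrCharacter G, (k ψ : ℂ) * (l ψ : ℂ) := by
      simp_rw [hsum]
      rw [Finset.sum_comm]
      refine Finset.sum_congr rfl fun ψ _ => ?_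
      rw [← hl ψ, Finset.mul_sum]
    rw [h4] at h1
    exact_mod_cast h1
  have h4 := (Finset.sum_eq_zero_iff.1 h3) χ (Finset.mem_univ _)
  rcases mul_eq_zero.1 h4 with h5 | h5
  · exact absurd h5 hχ0
  · show ∑ᶠ y : N, (χ : G → ℂ) y = 0
    rw [finsum_eq_sum_of_fintype, hl, h5, Nat.cast_zero]

end Abs

section Weil

variable {F : Type u} {V : Type v} [Field F] [AddCommGroup V] [Module F V] {q : ℕ} {σ : F →+* F}
  {B : V →ₛₗ[σ] V →ₗ[F] F} [Finite F] [Finite V]

/-- `g ↦ -(-q) ^ dim ker (g - 1)` is a character of the unitary group in odd dimension -/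
theorem weil_isCharacter (h : HS q σ B) (hodd : Odd (finrank F V)) (hn : 3 ≤ finrank F V) :
    IsCharacter (UU B) (fun g : UU B => - wf q g) := by
  classical
  have := Fintype.ofFinite (UU B)
  have := finite_irr (G := UU B)
  have := Fintype.ofFinite (IrrCharacter (UU B))
  obtain ⟨t, ht⟩ := exists_isTv h (by omega)
  obtain ⟨m, D⟩ := Cfsg.Agent.H458.CC.Main2Core.decomp h hodd hn (Cfsg.Agent.H603.CC.inp h hodd hn) ht
  have h1 : (fun g : UU B => - wf q g) = ∑ χ : IrrCharacter (UU B), m χ • (χ : UU B → ℂ) := by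
    funext g
    rw [D.eq_sum g, Finset.sum_apply]
    exact Finset.sum_congr rfl fun χ _ => by rw [Pi.smul_apply, nsmul_eq_mul]
  rw [h1]
  exact isCharacter_sum _ fun χ _ => isCharacter_nsmul _ (isIrr_isCharacter χ.2)

end Weil

section Gauss

variable {F : Type u} [Field F] [Finite F] {q : ℕ} {σ : F →+* F}

/-- the fixed field -/
def Fq (σ : F →+* F) : AddSubgroup F where
  carrier := {c | σ c = c}
  add_mem' := by
    intro a b ha hb
    show σ (a + b) = a + b
    rw [map_add]
    exact congrArg₂ _ ha hb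
  zero_mem' := map_zero σ
  neg_mem' := by
    intro a ha
    show σ (-a) = -a
    rw [map_neg]
    exact congrArg _ ha

omit [Finite F] in
theorem mem_Fq {c : F} : c ∈ Fq σ ↔ σ c = c := Iff.rfl

omit [Finite F] in
theorem addChar_sum (ψ : AddChar F ℂ) {ι : Type*} (s : Finset ι) (f : ι → F) : ψ (∑ i ∈ s, f i) = ∏ i ∈ s, ψ (f i) := by
  classical
  induction s using Finset.induction_on with
  | empty => rw [Finset.sum_empty, Finset.prod_empty, AddChar.map_zero_eq_one]
  | insert a s ha ih => rw [Finset.sum_insert ha, Finset.prod_insert ha, AddChar.map_add_eq_mul, ih]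

theorem gauss_one [Fintype F] (hF : Nat.card F = q ^ 2) (hσ : ∀ a, σ a = a ^ q) (hσσ : ∀ a, σ (σ a) = a)
    {ψ : AddChar F ℂ} (hψ : ψ 1 ≠ 1) : ∑ a : F, ψ (σ a * a) = -(q : ℂ) := by
  classical
  have hF' : Fintype.card F = q ^ 2 := by rw [← Nat.card_eq_fintype_card, hF]
  have := Fintype.ofFinite (Fq σ)
  let N : F → Fq σ := fun a => ⟨σ a * a, by rw [mem_Fq, map_mul, hσσ, mul_comm]⟩
  have hfib : ∀ c : Fq σ, ((Finset.univ.filter fun a => N a = c).card : ℂ) = (q : ℂ) + 1 + if c = 0 then -(q : ℂ) else 0 := by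
    intro c
    split_ifs with hc
    · subst hc
      have h1 : (Finset.univ.filter fun a => N a = 0) = {0} := by
        ext a
        rw [Finset.mem_filter, Finset.mem_singleton]
        constructor
        · rintro ⟨-, h⟩
          have h2 : σ a * a = 0 := congrArg Subtype.val h
          rcases mul_eq_zero.1 h2 with h3 | h3
          · exact (map_eq_zero σ).1 h3
          · exact h3
        · rintro rfl
          refine ⟨Finset.mem_univ _, Subtype.ext ?_⟩
          show σ 0 * 0 = 0
          rw [mul_zero]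
      rw [h1, Finset.card_singleton]
      push_cast
      ring
    · have h1 := Cfsg.Agent.ClassicalGeometry.HermLines4.card_norm_eq hF' (c := (c : F))
        (by rw [← hσ]; exact c.2) (fun h => hc (Subtype.ext h))
      have h2 : (Finset.univ.filter fun a => N a = c).card = Nat.card {x : F // x * x ^ q = c} := by
        rw [← Fintype.card_subtype, ← Nat.card_eq_fintype_card]
        refine Nat.card_congr (Equiv.subtypeEquivRight fun x => ?_)
        rw [← hσ, mul_comm]
        exact Subtype.ext_iff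
      rw [h2, h1]
      push_cast
      ring
  have h1 : ∑ a : F, ψ (σ a * a) = ∑ c : Fq σ, ((q : ℂ) + 1 + if c = 0 then -(q : ℂ) else 0) * ψ (c : F) := by
    rw [← Finset.sum_fiberwise (s := Finset.univ) (g := N)]
    refine Finset.sum_congr rfl fun c _ => ?_
    rw [← hfib, ← nsmul_eq_mul, ← Finset.sum_const]
    refine Finset.sum_congr rfl fun a ha => ?_
    rw [← (Finset.mem_filter.1 ha).2]
  have h2 : ∑ c : Fq σ, ψ (c : F) = 0 := by
    have h3 : ψ.compAddMonoidHom (Fq σ).subtype ≠ 0 := by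
      intro h4
      apply hψ
      have h5 := congrArg (fun f : AddChar (Fq σ) ℂ => f ⟨1, map_one σ⟩) h4
      simpa using h5
    exact (AddChar.sum_eq_zero_iff_ne_zero).2 h3
  rw [h1]
  simp only [add_mul, ite_mul, zero_mul]
  rw [Finset.sum_add_distrib, Finset.sum_add_distrib, ← Finset.mul_sum, h2, Finset.sum_ite_eq' Finset.univ (0 : Fq σ),
    if_pos (Finset.mem_univ _)]
  simp [h2]

theorem gauss [Fintype F] (hF : Nat.card F = q ^ 2) (hσ : ∀ a, σ a = a ^ q) (hne : σ ≠ RingHom.id F)
    (hσσ : ∀ a, σ (σ a) = a) {ψ : AddChar F ℂ} (hψ : ψ 1 ≠ 1) {A : Type*} [AddCommGroup A] [Module F A] [Fintype A]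
    (D : A →ₛₗ[σ] A →ₗ[F] F) (hD : D.IsSymm) :
    ∑ z : A, ψ (D z z) = (-(q : ℂ)) ^ (finrank F A + finrank F (LinearMap.ker D)) := by
  classical
  obtain ⟨W, hW⟩ := (LinearMap.ker D).exists_isCompl
  obtain ⟨r, hr, b, hb⟩ : ∃ (r : ℕ) (_ : finrank F W = r) (b : Basis (Fin r) F W),
      ∀ i j, D (b i : A) (b j : A) = if i = j then 1 else 0 := ⟨_, rfl, Cfsg.Agent.H118.CC.exists_onb hne hσσ D hD W hW⟩
  have := Fintype.ofFinite (LinearMap.ker D)
  have := Fintype.ofFinite W
  let e : (LinearMap.ker D × (Fin r → F)) ≃ A :=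
    ((Equiv.refl _).prodCongr b.equivFun.symm.toEquiv).trans (Submodule.prodEquivOfIsCompl _ _ hW).toEquiv
  have he : ∀ (x : LinearMap.ker D) (c : Fin r → F), e (x, c) = (x : A) + ((∑ i, c i • b i : W) : A) := by
    intro x c
    show Submodule.prodEquivOfIsCompl _ _ hW (x, b.equivFun.symm c) = _
    rw [b.equivFun_symm_apply]
    rfl
  have hval : ∀ (x : LinearMap.ker D) (c : Fin r → F), D (e (x, c)) (e (x, c)) = ∑ i, σ (c i) * c i := by
    intro x c
    rw [he, Cfsg.Agent.H118.CC.form_add D hD _ _ _ _ x.2 x.2]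
    rw [Submodule.coe_sum, LinearMap.map_sum₂]
    refine Finset.sum_congr rfl fun i _ => ?_
    rw [map_sum, Finset.sum_eq_single i]
    · rw [Submodule.coe_smul, form_smul_left, form_smul_right, hb, if_pos rfl, mul_one]
    · intro j _ hj
      rw [Submodule.coe_smul, Submodule.coe_smul, form_smul_left, form_smul_right, hb, if_neg (Ne.symm hj), mul_zero,
        mul_zero]
    · intro h
      exact absurd (Finset.mem_univ _) h
  rw [← e.sum_comp, Fintype.sum_prod_type]
  simp only [hval]
  have h1 : ∀ c : Fin r → F, ψ (∑ i, σ (c i) * c i) = ∏ i, ψ (σ (c i) * c i) := by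
    intro c
    exact addChar_sum ψ _ _
  simp only [h1]
  have h2 := Fintype.sum_pow (fun a : F => ψ (σ a * a)) r
  rw [gauss_one hF hσ hσσ hψ] at h2
  have h3 : ∑ c : Fin r → F, ∏ i, ψ (σ (c i) * c i) = (-(q : ℂ)) ^ r := by
    rw [h2]
  have h4 : Fintype.card (LinearMap.ker D) = (q ^ 2) ^ finrank F (LinearMap.ker D) := by
    rw [← Nat.card_eq_fintype_card, Module.natCard_eq_pow_finrank (K := F), hF]
  have h5 := Submodule.finrank_add_eq_of_isCompl hW
  rw [h3, Finset.sum_const, Finset.card_univ, h4, nsmul_eq_mul, ← h5, hr]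
  push_cast
  rw [← neg_sq (q : ℂ), ← pow_mul, ← pow_add]
  congr 1
  omega

end Gauss


section Spaces

variable {F : Type u} {V : Type v} [Field F] [AddCommGroup V] [Module F V] {q : ℕ} {σ : F →+* F}
  (B : V →ₛₗ[σ] V →ₗ[F] F) [Finite F] [Finite V]

/-- the form on `V ⊗ F^d` -/
noncomputable def piB (d : ℕ) : (Fin d → V) →ₛₗ[σ] (Fin d → V) →ₗ[F] F :=
  LinearMap.mk₂'ₛₗ σ (RingHom.id F) (fun v w => ∑ j, B (v j) (w j))
    (fun v v' w => by
      rw [← Finset.sum_add_distrib]
      exact Finset.sum_congr rfl fun j _ => by rw [Pi.add_apply, form_add_left])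
    (fun a v w => by
      rw [smul_eq_mul, Finset.mul_sum]
      exact Finset.sum_congr rfl fun j _ => by rw [Pi.smul_apply, form_smul_left])
    (fun v w w' => by
      rw [← Finset.sum_add_distrib]
      exact Finset.sum_congr rfl fun j _ => by rw [Pi.add_apply, form_add_right])
    (fun a v w => by
      rw [smul_eq_mul, Finset.mul_sum]
      exact Finset.sum_congr rfl fun j _ => by rw [Pi.smul_apply, form_smul_right, RingHom.id_apply])

theorem piB_apply (d : ℕ) (v w : Fin d → V) : piB B d v w = ∑ j, B (v j) (w j) := rfl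

/-- the form on `V × F` -/
noncomputable def prB : (V × F) →ₛₗ[σ] (V × F) →ₗ[F] F :=
  LinearMap.mk₂'ₛₗ σ (RingHom.id F) (fun v w => B v.1 w.1 + σ v.2 * w.2)
    (fun v v' w => by
      rw [Prod.fst_add, Prod.snd_add, form_add_left, map_add σ, add_mul]
      ring)
    (fun a v w => by
      simp only [Prod.smul_fst, Prod.smul_snd, form_smul_left, smul_eq_mul, map_mul, mul_add]
      ring)
    (fun v w w' => by
      simp only [Prod.fst_add, Prod.snd_add, form_add_right, mul_add]
      ring)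
    (fun a v w => by
      simp only [Prod.smul_fst, Prod.smul_snd, form_smul_right, smul_eq_mul, mul_add, RingHom.id_apply]
      ring)

theorem prB_apply (v w : V × F) : prB B v w = B v.1 w.1 + σ v.2 * w.2 := rfl

/-- the form on `F` -/
noncomputable def oneB (σ : F →+* F) : F →ₛₗ[σ] F →ₗ[F] F :=
  LinearMap.mk₂'ₛₗ σ (RingHom.id F) (fun a b => σ a * b)
    (fun a a' b => by rw [map_add, add_mul])
    (fun c a b => by rw [smul_eq_mul, map_mul, smul_eq_mul, mul_assoc])
    (fun a b b' => mul_add _ _ _)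
    (fun c a b => by rw [smul_eq_mul, RingHom.id_apply, smul_eq_mul, mul_left_comm])

theorem oneB_apply (a b : F) : oneB σ a b = σ a * b := rfl

variable {B}

theorem HS_right_ext (h : HS q σ B) {v : V} (hv : ∀ x, B x v = 0) : v = 0 :=
  h.ext fun x => h.zero_symm (hv x)

theorem HS_right_ext' (h : HS q σ B) {v w : V} (hv : ∀ x, B x v = B x w) : v = w := by
  rw [← sub_eq_zero]
  exact HS_right_ext h fun x => by rw [form_sub_right, hv, sub_self]

theorem hs_pi (h : HS q σ B) (d : ℕ) : HS q σ (piB B d) where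
  two_le := h.two_le
  card := h.card
  sig := h.sig
  symm := ⟨fun v w => by
    rw [piB_apply, piB_apply, map_sum]
    exact Finset.sum_congr rfl fun j _ => h.sy _ _⟩
  sep v hv := by
    classical
    funext j
    refine h.ext fun y => ?_
    have h1 := hv (Pi.single j y)
    rw [piB_apply, Finset.sum_eq_single j] at h1
    · rwa [Pi.single_eq_same] at h1
    · intro i _ hi
      rw [Pi.single_eq_of_ne hi, map_zero]
    · intro h2
      exact absurd (Finset.mem_univ _) h2

theorem hs_pr (h : HS q σ B) : HS q σ (prB B) where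
  two_le := h.two_le
  card := h.card
  sig := h.sig
  symm := ⟨fun v w => by
    rw [prB_apply, prB_apply, map_add, map_mul, h.inv, h.sy, mul_comm]⟩
  sep v hv := by
    have h1 : v.1 = 0 := h.ext fun y => by
      have h2 := hv (y, 0)
      rwa [prB_apply, mul_zero, add_zero] at h2
    have h3 := hv (0, 1)
    rw [prB_apply, map_zero, zero_add, mul_one] at h3
    exact Prod.ext h1 ((map_eq_zero σ).1 h3)

theorem hs_one (h : HS q σ B) : HS q σ (oneB σ) where
  two_le := h.two_le
  card := h.card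
  sig := h.sig
  symm := ⟨fun v w => by rw [oneB_apply, oneB_apply, map_mul, h.inv, mul_comm]⟩
  sep v hv := by
    have h1 := hv 1
    rw [oneB_apply, mul_one] at h1
    exact (map_eq_zero σ).1 h1

/-- the standard space -/
noncomputable abbrev BW (σ : F →+* F) (d : ℕ) : (Fin d → F) →ₛₗ[σ] (Fin d → F) →ₗ[F] F := piB (oneB σ) d

theorem BW_apply {d : ℕ} (v w : Fin d → F) : BW σ d v w = ∑ j, σ (v j) * w j := rfl

variable {d : ℕ}

/-- matrix entries -/
noncomputable def mt (g : UU (BW σ d)) (i j : Fin d) : F := ac (BW σ d) g (Pi.single j 1) i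

theorem ac_W (g : UU (BW σ d)) (w : Fin d → F) (i : Fin d) : ac (BW σ d) g w i = ∑ j, mt g i j * w j := by
  have h1 : w = ∑ j, w j • (Pi.single j (1 : F) : Fin d → F) := by
    rw [← pi_eq_sum_univ']
  conv_lhs => rw [h1]
  show ((g : (Fin d → F) ≃ₗ[F] (Fin d → F)) _) i = _
  rw [map_sum, Finset.sum_apply]
  refine Finset.sum_congr rfl fun j _ => ?_
  rw [map_smul, Pi.smul_apply, smul_eq_mul, mul_comm]
  rfl

/-- the action on `V ⊗ F^d` -/
noncomputable def hL (V : Type v) [AddCommGroup V] [Module F V] (g : UU (BW σ d)) : (Fin d → V) →ₗ[F] (Fin d → V) :=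
  LinearMap.pi fun i => ∑ j, mt g i j • LinearMap.proj j

theorem hL_apply (g : UU (BW σ d)) (v : Fin d → V) (i : Fin d) : hL V g v i = ∑ j, mt g i j • v j := by
  simp only [hL, LinearMap.pi_apply, LinearMap.sum_apply, LinearMap.smul_apply, LinearMap.proj_apply]

theorem map_hL {V' : Type*} [AddCommGroup V'] [Module F V'] [Finite V'] (l : V →ₗ[F] V') (g : UU (BW σ d)) (v : Fin d → V)
    (i : Fin d) : l (hL V g v i) = hL V' g (fun j => l (v j)) i := by
  rw [hL_apply, hL_apply, map_sum]
  exact Finset.sum_congr rfl fun j _ => map_smul _ _ _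

theorem hL_F (g : UU (BW σ d)) (w : Fin d → F) : hL F g w = ac (BW σ d) g w := by
  funext i
  rw [hL_apply, ac_W]
  rfl

theorem form_hL (x : V) (g : UU (BW σ d)) (v : Fin d → V) (i : Fin d) :
    B x (hL V g v i) = ac (BW σ d) g (fun j => B x (v j)) i := by
  rw [map_hL, hL_F]

theorem hL_mul (h : HS q σ B) (g k : UU (BW σ d)) (v : Fin d → V) : hL V (g * k) v = hL V g (hL V k v) := by
  funext i
  refine HS_right_ext' h fun x => ?_
  rw [form_hL, form_hL, ac_mul]
  have h1 : ac (BW σ d) k (fun j => B x (v j)) = fun j => B x (hL V k v j) := funext fun j => (form_hL x k v j).symm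
  rw [h1]

theorem hL_one (h : HS q σ B) (v : Fin d → V) : hL V (1 : UU (BW σ d)) v = v := by
  funext i
  refine HS_right_ext' h fun x => ?_
  rw [form_hL]
  rfl

theorem hL_isom (g : UU (BW σ d)) (v w : Fin d → V) :
    piB B d (hL V g v) (hL V g w) = piB B d v w := by
  classical
  have h1 : ∀ j k, ∑ i, σ (mt g i j) * mt g i k = if j = k then 1 else 0 := by
    intro j k
    have h2 := form_ac g (Pi.single j 1) (Pi.single k 1)
    rw [BW_apply, BW_apply] at h2
    show ∑ i, σ (ac (BW σ d) g (Pi.single j 1) i) * ac (BW σ d) g (Pi.single k 1) i = _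
    rw [h2, Finset.sum_eq_single j]
    · rw [Pi.single_eq_same, map_one, one_mul]
      by_cases hjk : j = k
      · rw [if_pos hjk, hjk, Pi.single_eq_same]
      · rw [if_neg hjk, Pi.single_eq_of_ne hjk]
    · intro i _ hi
      rw [Pi.single_eq_of_ne hi, map_zero, zero_mul]
    · intro h3
      exact absurd (Finset.mem_univ _) h3
  rw [piB_apply, piB_apply]
  have h2 : ∀ i, B (hL V g v i) (hL V g w i) = ∑ j, ∑ k, σ (mt g i j) * mt g i k * B (v j) (w k) := by
    intro i
    rw [hL_apply, hL_apply, LinearMap.map_sum₂]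
    refine Finset.sum_congr rfl fun j _ => ?_
    rw [map_sum]
    refine Finset.sum_congr rfl fun k _ => ?_
    rw [form_smul_left, form_smul_right, mul_assoc]
  rw [Finset.sum_congr rfl fun i _ => h2 i, Finset.sum_comm]
  refine Finset.sum_congr rfl fun j _ => ?_
  rw [Finset.sum_comm, Finset.sum_eq_single j]
  · rw [← Finset.sum_mul, h1, if_pos rfl, one_mul]
  · intro k _ hk
    rw [← Finset.sum_mul, h1, if_neg (Ne.symm hk), zero_mul]
  · intro h3
    exact absurd (Finset.mem_univ _) h3

theorem exists_iG (h : HS q σ B) (g : UU B × UU (BW σ d)) :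
    ∃ x : UU (prB (piB B d)), ∀ v, ac (prB (piB B d)) x v = (fun j => ac B g.1 (hL V g.2 v.1 j), v.2) := by
  obtain ⟨x, hx⟩ := exists_ofLinear (hs_pr (hs_pi h d))
    (((((g.1 : V ≃ₗ[F] V) : V →ₗ[F] V).compLeft (Fin d)).comp (hL V g.2)).prodMap LinearMap.id) (by
      intro v w
      rw [prB_apply, prB_apply]
      show piB B d (fun j => ac B g.1 (hL V g.2 v.1 j)) (fun j => ac B g.1 (hL V g.2 w.1 j)) + σ v.2 * w.2 = _
      rw [← hL_isom g.2 v.1 w.1, piB_apply, piB_apply]
      congr 1
      exact Finset.sum_congr rfl fun j _ => form_ac _ _ _)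
  exact ⟨x, fun v => hx v⟩

/-- the homomorphism `GU(V) × GU_d → GU(V ⊗ F^d ⊕ F)` -/
noncomputable def iG (h : HS q σ B) (d : ℕ) : UU B × UU (BW σ d) →* UU (prB (piB B d)) :=
  MonoidHom.mk' (fun g => (exists_iG h g).choose) (by
    intro g k
    apply ac_ext
    intro v
    rw [ac_mul, (exists_iG h (g * k)).choose_spec, (exists_iG h g).choose_spec, (exists_iG h k).choose_spec]
    refine Prod.ext ?_ rfl
    funext j
    show ac B (g.1 * k.1) (hL V (g.2 * k.2) v.1 j) = ac B g.1 (hL V g.2 (fun j => ac B k.1 (hL V k.2 v.1 j)) j)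
    rw [ac_mul, hL_mul h]
    congr 1
    exact map_hL ((k.1 : V ≃ₗ[F] V) : V →ₗ[F] V) g.2 _ j)

theorem ac_iG (h : HS q σ B) (g : UU B) (k : UU (BW σ d)) (v : (Fin d → V) × F) :
    ac (prB (piB B d)) (iG h d (g, k)) v = (fun j => ac B g (hL V k v.1 j), v.2) := (exists_iG h (g, k)).choose_spec v

/-- the fixed vectors of `g ⊗ k` -/
noncomputable def Fx (g : UU B) (k : UU (BW σ d)) : Submodule F (Fin d → V) :=
  LinearMap.ker ((((g : V ≃ₗ[F] V) : V →ₗ[F] V).compLeft (Fin d)).comp (hL V k) - LinearMap.id)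

theorem mem_Fx {g : UU B} {k : UU (BW σ d)} {v : Fin d → V} : v ∈ Fx g k ↔ ∀ j, ac B g (hL V k v j) = v j := by
  rw [Fx, LinearMap.mem_ker, LinearMap.sub_apply, sub_eq_zero, funext_iff]
  rfl

theorem finrank_iG (h : HS q σ B) (g : UU B) (k : UU (BW σ d)) :
    finrank F (fx (iG h d (g, k))) = finrank F (Fx g k) + 1 := by
  have h1 : finrank F (Fx g k) + 1 = finrank F (Fx g k × F) := by rw [Module.finrank_prod, finrank_self]
  rw [h1]
  refine LinearEquiv.finrank_eq
    { toFun := fun v => (⟨(v : (Fin d → V) × F).1, ?_⟩, (v : (Fin d → V) × F).2)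
      invFun := fun v => ⟨((v.1 : Fin d → V), v.2), ?_⟩
      map_add' := fun v w => rfl
      map_smul' := fun c v => rfl
      left_inv := fun v => rfl
      right_inv := fun v => rfl }
  · rw [mem_Fx]
    have h2 := mem_fx.1 v.2
    rw [ac_iG] at h2
    exact fun j => congrFun (congrArg Prod.fst h2) j
  · rw [mem_fx, ac_iG]
    refine Prod.ext ?_ rfl
    funext j
    exact mem_Fx.1 v.1.2 j

theorem wf_iG (h : HS q σ B) (g : UU B) (k : UU (BW σ d)) :
    - wf q (iG h d (g, k)) = (q : ℂ) * (-(q : ℂ)) ^ finrank F (Fx g k) := by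
  rw [wf, finrank_iG, pow_succ]
  ring

end Spaces


section Sing

variable {F : Type u} [Field F] [Finite F] {p : ℕ} [Fact p.Prime]

/-- dimension of the fixed space of an element of order `p` -/
theorem dvd_of_pow {S : Type*} [AddCommGroup S] [Module F S] [Finite S] (hp : ¬ p ∣ Nat.card F) (g : S ≃ₗ[F] S)
    (hgp : g ^ p = 1) (K : Submodule F S) (hK : ∀ v, v ∈ K ↔ g v = v) :
    p ∣ Nat.card F ^ (finrank F S - finrank F K) - 1 := by
  classical
  have hP : IsPGroup p (Subgroup.zpowers g) := by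
    intro a
    refine ⟨1, ?_⟩
    obtain ⟨k, hk⟩ := a.2
    apply Subtype.ext
    rw [pow_one]
    show (a : S ≃ₗ[F] S) ^ p = 1
    have hk' : g ^ k = (a : S ≃ₗ[F] S) := hk
    rw [← hk', ← zpow_natCast, ← zpow_mul, mul_comm, zpow_mul, zpow_natCast, hgp, one_zpow]
  have h1 := hP.card_modEq_card_fixedPoints S
  have h2 : Nat.card (MulAction.fixedPoints (Subgroup.zpowers g) S) = Nat.card K := by
    refine Nat.card_congr (Equiv.subtypeEquivRight fun v => ?_)
    rw [hK]
    constructor
    · intro h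
      exact h ⟨g, Subgroup.mem_zpowers g⟩
    · rintro h ⟨a, k, rfl⟩
      show (g ^ k) v = v
      have h4 : g ∈ MulAction.stabilizer (S ≃ₗ[F] S) v := h
      exact Subgroup.zpow_mem _ h4 k
  rw [h2, Module.natCard_eq_pow_finrank (K := F) (V := S), Module.natCard_eq_pow_finrank (K := F) (V := K)] at h1
  have hle : finrank F K ≤ finrank F S := Submodule.finrank_le _
  have hd : p ∣ Nat.card F ^ finrank F S - Nat.card F ^ finrank F K :=
    (Nat.modEq_iff_dvd' (Nat.pow_le_pow_right Nat.card_pos hle)).1 h1.symm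
  have h3 : Nat.card F ^ finrank F S - Nat.card F ^ finrank F K =
      Nat.card F ^ finrank F K * (Nat.card F ^ (finrank F S - finrank F K) - 1) := by
    rw [Nat.mul_sub, mul_one, ← pow_add, Nat.add_sub_cancel' hle]
  rw [h3] at hd
  rcases (Fact.out : p.Prime).dvd_mul.1 hd with h4 | h4
  · exact absurd ((Fact.out : p.Prime).dvd_of_dvd_pow h4) hp
  · exact h4

variable {V : Type v} [AddCommGroup V] [Module F V] {q : ℕ} {σ : F →+* F}
  {B : V →ₛₗ[σ] V →ₗ[F] F} [Finite V]

theorem ac_pow_mem {z : UU B} {S : Submodule F V} (hS : ∀ s ∈ S, ac B z s ∈ S) (k : ℕ) :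
    ∀ s ∈ S, ac B (z ^ k) s ∈ S := by
  induction k with
  | zero => intro s hs; exact hs
  | succ k ih => intro s hs; rw [pow_succ, ac_mul]; exact ih _ (hS s hs)

/-- small invariant subspaces are fixed -/
theorem fix_of_small {e : ℕ} (hp : ¬ p ∣ Nat.card F) (hord : ∀ i, 0 < i → i < e → ¬ p ∣ Nat.card F ^ i - 1) {z : UU B}
    (hz : z ^ p = 1) {S : Submodule F V} (hS : ∀ s ∈ S, ac B z s ∈ S) (hd : finrank F S < e) : S ≤ fx z := by
  let g0 : S →ₗ[F] S := ((z : V ≃ₗ[F] V) : V →ₗ[F] V).restrict hS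
  have hg0 : ∀ s : S, ((g0 s : S) : V) = ac B z s := fun s => rfl
  have hinj : Function.Injective g0 := by
    intro a b hab
    have h1 : ac B z a = ac B z b := by rw [← hg0, ← hg0, hab]
    exact Subtype.ext ((z : V ≃ₗ[F] V).injective h1)
  let g : S ≃ₗ[F] S := LinearEquiv.ofInjectiveEndo g0 hinj
  have hg : ∀ s : S, ((g s : S) : V) = ac B z s := fun s => rfl
  have hgk : ∀ (k : ℕ) (s : S), (((g ^ k) s : S) : V) = ac B (z ^ k) s := by
    intro k
    induction k with
    | zero => intro s; rfl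
    | succ k ih => intro s; rw [pow_succ, LinearEquiv.mul_apply, ih, pow_succ, ac_mul, hg]
  have hgp : g ^ p = 1 := by
    ext s
    rw [hgk, hz]
    rfl
  let K : Submodule F S := (fx z).comap S.subtype
  have hK : ∀ v, v ∈ K ↔ g v = v := by
    intro v
    rw [Subtype.ext_iff, hg]
    rfl
  have h1 := dvd_of_pow hp g hgp K hK
  have h2 : finrank F S - finrank F K = 0 := by
    by_contra h3
    exact hord _ (Nat.pos_of_ne_zero h3) (by omega) h1
  have h3 : K = ⊤ := by
    refine Submodule.eq_top_of_finrank_eq (le_antisymm (Submodule.finrank_le _) (by omega))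
  intro s hs
  have h4 : (⟨s, hs⟩ : S) ∈ K := by rw [h3]; exact Submodule.mem_top
  exact h4

theorem finrank_fx_one {e : ℕ} (he : 2 ≤ e) (hn : finrank F V = e + 1) (hp : ¬ p ∣ Nat.card F)
    (hord : ∀ i, 0 < i → i < e → ¬ p ∣ Nat.card F ^ i - 1) (hpe : p ∣ Nat.card F ^ e - 1) {z : UU B}
    (hz : z ^ p = 1) (hz1 : z ≠ 1) : finrank F (fx z) = 1 := by
  have h1 := dvd_of_pow hp (z : V ≃ₗ[F] V) (congrArg Subtype.val hz) (fx z) (fun v => Iff.rfl)
  rw [hn] at h1
  have hle : finrank F (fx z) ≤ finrank F V := Submodule.finrank_le _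
  have hne : finrank F (fx z) ≠ finrank F V := by
    intro h2
    apply hz1
    have h3 : fx z = ⊤ := Submodule.eq_top_of_finrank_eq h2
    apply ac_ext
    intro v
    have h4 : v ∈ fx z := by rw [h3]; exact Submodule.mem_top
    exact h4
  rcases Nat.lt_trichotomy (e + 1 - finrank F (fx z)) e with h2 | h2 | h2
  · exact absurd h1 (hord _ (by omega) h2)
  · omega
  · exfalso
    have h3 : e + 1 - finrank F (fx z) = e + 1 := by omega
    rw [h3] at h1
    refine hord 1 one_pos (by omega) ?_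
    rw [pow_one]
    have hQ : 1 ≤ Nat.card F := Nat.card_pos
    have hQe : 1 ≤ Nat.card F ^ e := Nat.one_le_pow _ _ hQ
    have h4 : Nat.card F ^ (e + 1) - 1 = Nat.card F * (Nat.card F ^ e - 1) + (Nat.card F - 1) := by
      rw [pow_succ', Nat.mul_sub, mul_one]
      have : Nat.card F ≤ Nat.card F * Nat.card F ^ e := Nat.le_mul_of_pos_right _ (by omega)
      omega
    rw [h4] at h1
    exact (Nat.dvd_add_right (dvd_mul_of_dvd_right hpe _)).1 h1

/-- the fixed line is not singular -/
theorem form_ne_zero (h : HS q σ B) (hpF : (p : F) ≠ 0) {z : UU B} (hz : z ^ p = 1) (h1 : finrank F (fx z) = 1)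
    {l : V} (hl : l ∈ fx z) (hl0 : l ≠ 0) : B l l ≠ 0 := by
  intro h0
  apply hl0
  refine h.ext fun v => ?_
  set s : V := ∑ i ∈ Finset.range p, ac B (z ^ i) v with hs
  have hsf : s ∈ fx z := by
    rw [mem_fx]
    have h2 : ac B z s = ∑ i ∈ Finset.range p, ac B (z ^ (i + 1)) v := by
      show (z : V ≃ₗ[F] V) s = _
      rw [hs, map_sum]
      refine Finset.sum_congr rfl fun i _ => ?_
      rw [pow_succ', ac_mul]
      rfl
    have h3 := Finset.sum_range_succ (fun i => ac B (z ^ i) v) p
    have h4 := Finset.sum_range_succ' (fun i => ac B (z ^ i) v) p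
    rw [h3] at h4
    rw [h2]
    have h5 : ac B (z ^ p) v = ac B (z ^ 0) v := by rw [hz, pow_zero]
    rw [h5] at h4
    exact (add_right_cancel h4).symm
  obtain ⟨c, hc⟩ := (finrank_eq_one_iff_of_nonzero' (⟨l, hl⟩ : fx z) (fun h2 => hl0 (congrArg Subtype.val h2))).1 h1 ⟨s, hsf⟩
  have hc' : c • l = s := congrArg Subtype.val hc
  have h2 : B l s = 0 := by rw [← hc', form_smul_right, h0, mul_zero]
  have h3 : ∀ i, B l (ac B (z ^ i) v) = B l v := by
    intro i
    have h4 : ac B (z ^ i) l = l := ac_pow_of_fix hl i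
    conv_lhs => rw [← h4]
    exact form_ac _ _ _
  rw [hs, map_sum, Finset.sum_congr rfl fun i _ => h3 i, Finset.sum_const, Finset.card_range, nsmul_eq_mul] at h2
  rcases mul_eq_zero.1 h2 with h4 | h4
  · exact absurd h4 hpF
  · exact h4

/-- **the fixed space of `x ⊗ k`, `x` `p`-singular** -/
theorem exists_scal {e d : ℕ} (h : HS q σ B) (hpF : (p : F) ≠ 0) (he : 2 ≤ e) (hn : finrank F V = e + 1)
    (hp : ¬ p ∣ Nat.card F)
    (hord : ∀ i, 0 < i → i < e → ¬ p ∣ Nat.card F ^ i - 1) (hpe : p ∣ Nat.card F ^ e - 1) (hd : d < e)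
    {x : UU B} (hx : p ∣ orderOf x) :
    ∃ w ∈ Zs (BW σ d), ∀ k : UU (BW σ d), finrank F (Fx x k) = finrank F (fx (w * k)) := by
  obtain ⟨m, hm⟩ := hx
  have ho : 0 < orderOf x := orderOf_pos x
  have hpp : p.Prime := Fact.out
  have hm0 : 0 < m := Nat.pos_of_ne_zero (by rintro rfl; rw [mul_zero] at hm; omega)
  set z : UU B := x ^ m with hz
  have hzp : z ^ p = 1 := by rw [hz, ← pow_mul, mul_comm, ← hm, pow_orderOf_eq_one]
  have hz1 : z ≠ 1 := by
    intro h1
    have h2 := Nat.le_of_dvd hm0 (orderOf_dvd_of_pow_eq_one h1)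
    rw [hm] at h2
    have := Nat.mul_le_mul_right m hpp.two_le
    omega
  have hf1 := finrank_fx_one he hn hp hord hpe hzp hz1
  obtain ⟨l, hl, hl0⟩ : ∃ l ∈ fx z, l ≠ 0 := by
    refine Submodule.exists_mem_ne_zero_of_ne_bot fun h1 => ?_
    rw [h1, finrank_bot] at hf1
    omega
  have hspan : ∀ v ∈ fx z, ∃ c : F, c • l = v := by
    intro v hv
    obtain ⟨c, hc⟩ := (finrank_eq_one_iff_of_nonzero' (⟨l, hl⟩ : fx z) (fun h2 => hl0 (congrArg Subtype.val h2))).1 hf1 ⟨v, hv⟩
    exact ⟨c, congrArg Subtype.val hc⟩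
  have hBl := form_ne_zero h hpF hzp hf1 hl hl0
  have hxl : ac B x l ∈ fx z := by
    rw [mem_fx, ← ac_mul]
    have h1 : z * x = x * z := by rw [hz, ← pow_succ, ← pow_succ']
    rw [h1, ac_mul, mem_fx.1 hl]
  obtain ⟨s, hs⟩ := hspan _ hxl
  have hs1 : σ s * s = 1 := by
    have h1 := form_ac x l l
    rw [← hs, form_smul_left, form_smul_right, ← mul_assoc] at h1
    exact mul_right_cancel₀ hBl (h1.trans (one_mul _).symm)
  have hsq : s ^ (q + 1) = 1 := by rw [pow_succ, ← h.sig, hs1]
  obtain ⟨w, hw⟩ := exists_scalar (hs_pi (hs_one h) d) hsq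
  refine ⟨w, ⟨s, hw⟩, fun k => ?_⟩
  -- the linear map
  let T : (Fin d → F) →ₗ[F] (Fin d → V) :=
    LinearMap.pi fun j => (LinearMap.proj j : (Fin d → F) →ₗ[F] F).smulRight l
  have hT : ∀ (c : Fin d → F) j, T c j = c j • l := fun c j => rfl
  have hTi : Function.Injective T := by
    intro a b hab
    funext j
    have h1 := congrFun hab j
    rw [hT, hT] at h1
    exact smul_left_injective F hl0 h1
  have hTh : ∀ c : Fin d → F, hL V k (T c) = T (ac (BW σ d) k c) := by
    intro c
    funext j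
    rw [hL_apply, hT, ac_W, Finset.sum_smul]
    exact Finset.sum_congr rfl fun i _ => by rw [hT, smul_smul]
  have key : Fx x k = (fx (w * k)).map T := by
    ext v
    constructor
    · intro hv
      rw [mem_Fx] at hv
      -- the subspace spanned by the components
      set S : Submodule F V := Submodule.span F (Set.range v) with hS
      have h1 : ∀ j, hL V k v j ∈ S := by
        intro j
        rw [hL_apply]
        exact Submodule.sum_mem _ fun i _ => Submodule.smul_mem _ _ (Submodule.subset_span ⟨i, rfl⟩)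
      have h2 : S ≤ Submodule.span F (Set.range (hL V k v)) := by
        rw [hS, Submodule.span_le]
        rintro _ ⟨j, rfl⟩
        have h3 : v = hL V k⁻¹ (hL V k v) := by rw [← hL_mul h, inv_mul_cancel, hL_one h]
        rw [SetLike.mem_coe, h3, ← h3, h3, hL_apply]
        rw [← h3]
        exact Submodule.sum_mem _ fun i _ => Submodule.smul_mem _ _ (Submodule.subset_span ⟨i, rfl⟩)
      have h3 : ∀ s ∈ S, ac B x s ∈ S := by
        have h3' : ∀ a ∈ Submodule.span F (Set.range (hL V k v)), ac B x a ∈ S := by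
          intro a ha
          induction ha using Submodule.span_induction with
          | mem a ha =>
            obtain ⟨j, rfl⟩ := ha
            rw [hv j]
            exact Submodule.subset_span ⟨j, rfl⟩
          | zero => rw [ac_zero]; exact zero_mem _
          | add a b _ _ ha' hb' => rw [ac_add]; exact add_mem ha' hb'
          | smul c a _ ha' => rw [ac_smul]; exact Submodule.smul_mem _ _ ha'
        exact fun s hs' => h3' s (h2 hs')
      have h4 : finrank F S < e := by
        have h5 := finrank_range_le_card (R := F) v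
        rw [Fintype.card_fin] at h5
        exact lt_of_le_of_lt h5 hd
      have h5 := fix_of_small hp hord hzp (ac_pow_mem h3 m) h4
      have h6 : ∀ j, ∃ c : F, c • l = v j := fun j => hspan _ (h5 (Submodule.subset_span ⟨j, rfl⟩))
      choose c hc using h6
      have hvT : T c = v := funext fun j => (hT c j).trans (hc j)
      refine ⟨c, ?_, hvT⟩
      rw [SetLike.mem_coe, mem_fx, ac_mul, hw]
      apply hTi
      funext j
      have h7 := hv j
      rw [← hvT, hTh, hT, ac_smul, ← hs] at h7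
      rw [hT, ← h7, Pi.smul_apply, smul_smul, smul_eq_mul, mul_comm]
    · rintro ⟨c, hc, rfl⟩
      rw [SetLike.mem_coe, mem_fx, ac_mul, hw] at hc
      rw [mem_Fx]
      intro j
      rw [hTh, hT, ac_smul, ← hs, hT, smul_smul]
      congr 1
      have h1 := congrFun hc j
      rw [Pi.smul_apply, smul_eq_mul, mul_comm] at h1
      exact h1
  rw [key]
  exact (LinearEquiv.finrank_eq (Submodule.equivMapOfInjective T hTi _)).symm

/-- the value on the `p`-singular elements -/
theorem thl_sing {e d : ℕ} (h : HS q σ B) (hpF : (p : F) ≠ 0) (he : 2 ≤ e) (hn : finrank F V = e + 1)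
    (hp : ¬ p ∣ Nat.card F)
    (hord : ∀ i, 0 < i → i < e → ¬ p ∣ Nat.card F ^ i - 1) (hpe : p ∣ Nat.card F ^ e - 1) (hd : d < e)
    [Fintype (UU (BW σ d))] {ζ : UU (BW σ d) → ℂ} (hζ : ∀ z ∈ Zs (BW σ d), ∀ k, ζ (z * k) = ζ k)
    {x : UU B} (hx : p ∣ orderOf x) :
    thl (iG h d) (fun g => - wf q g) ζ x = (q : ℂ) * ∑ k : UU (BW σ d), wf q k * conj (ζ k) := by
  obtain ⟨w, hw, hk⟩ := exists_scal h hpF he hn hp hord hpe hd hx
  rw [thl]
  have h1 : ∀ k : UU (BW σ d), - wf q (iG h d (x, k)) * conj (ζ k) =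
      (q : ℂ) * (wf q (w * k) * conj (ζ (w * k))) := by
    intro k
    rw [wf_iG, hk, hζ w hw, wf]
    ring
  rw [Finset.sum_congr rfl fun k _ => h1 k, ← Finset.mul_sum]
  congr 1
  exact Equiv.sum_comp (Equiv.mulLeft w) (fun k => wf q k * conj (ζ k))

theorem sum_ne_zero {d : ℕ} (h : HS q σ B) [Fintype (UU (BW σ d))] {ζ : UU (BW σ d) → ℂ}
    (hi : IsIrrCharacter (UU (BW σ d)) ζ) (hζ : ∀ z ∈ Zs (BW σ d), ∀ k, ζ (z * k) = ζ k)
    (hf : ∀ g : UU (BW σ d), ζ g = ((q : ℂ) + 1)⁻¹ * ∑ᶠ z : Zs (BW σ d), (- wf q ((z : UU (BW σ d)) * g))) :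
    (q : ℂ) * ∑ k : UU (BW σ d), wf q k * conj (ζ k) ≠ 0 := by
  have := Fintype.ofFinite (Zs (BW σ d))
  have hq0 : (q : ℂ) ≠ 0 := by
    have := h.two_le
    exact_mod_cast (by omega : q ≠ 0)
  refine mul_ne_zero hq0 fun h0 => ?_
  have h1 := classInner_irr_self hi
  rw [classInner_def] at h1
  have h2 : ∑ g : UU (BW σ d), ζ g * conj (ζ g) = 0 := by
    have h3 : ∀ g, ζ g * conj (ζ g) =
        ((q : ℂ) + 1)⁻¹ * ∑ z : Zs (BW σ d), - (wf q ((z : UU (BW σ d)) * g) * conj (ζ ((z : UU (BW σ d)) * g))) := by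
      intro g
      have h4 : ∀ z : Zs (BW σ d), ζ ((z : UU (BW σ d)) * g) = ζ g := fun z => hζ _ z.2 g
      simp only [h4]
      generalize conj (ζ g) = c
      rw [hf g, finsum_eq_sum_of_fintype, mul_assoc, Finset.sum_mul]
      congr 1
      exact Finset.sum_congr rfl fun z _ => neg_mul _ _
    rw [Finset.sum_congr rfl fun g _ => h3 g, ← Finset.mul_sum, Finset.sum_comm]
    rw [Finset.sum_eq_zero, mul_zero]
    intro z _
    rw [Finset.sum_neg_distrib]
    have h4 := Equiv.sum_comp (Equiv.mulLeft (z : UU (BW σ d))) (fun k => wf q k * conj (ζ k))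
    rw [h0] at h4
    have h5 : ∀ k, Equiv.mulLeft (z : UU (BW σ d)) k = z * k := fun k => rfl
    simp only [h5] at h4
    rw [h4, neg_zero]
  rw [h2, mul_zero] at h1
  exact zero_ne_one h1

end Sing


section Skew

variable {F : Type u} [Field F] {σ : F →+* F} {m : ℕ}

/-- skew-hermitian matrices -/
def Skew (σ : F →+* F) (m : ℕ) : AddSubgroup (Fin m → Fin m → F) where
  carrier := {b | ∀ k i, b k i + σ (b i k) = 0}
  add_mem' := by
    intro a b ha hb k i
    rw [Pi.add_apply, Pi.add_apply, Pi.add_apply, Pi.add_apply, map_add]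
    linear_combination ha k i + hb k i
  zero_mem' := by
    intro k i
    simp
  neg_mem' := by
    intro a ha k i
    rw [Pi.neg_apply, Pi.neg_apply, Pi.neg_apply, Pi.neg_apply, map_neg]
    linear_combination -(ha k i)

theorem Skew.eq (b : Skew σ m) (k i : Fin m) : σ ((b : Fin m → Fin m → F) i k) = -(b : Fin m → Fin m → F) k i := by
  rw [eq_neg_iff_add_eq_zero, add_comm]
  exact b.2 k i

/-- the pairing with a matrix -/
def skL (σ : F →+* F) (κ : F) (g : Fin m → Fin m → F) : Skew σ m →+ F where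
  toFun b := κ * ∑ k, ∑ i, (b : Fin m → Fin m → F) k i * g k i
  map_zero' := by simp
  map_add' a b := by
    simp only [AddSubgroup.coe_add, Pi.add_apply, add_mul, Finset.sum_add_distrib, mul_add]

theorem skL_apply (κ : F) (g : Fin m → Fin m → F) (b : Skew σ m) :
    skL σ κ g b = κ * ∑ k, ∑ i, (b : Fin m → Fin m → F) k i * g k i := rfl

theorem sum_skew [Finite F] [Fintype (Skew σ m)] (hσσ : ∀ a, σ (σ a) = a) (h2 : (2 : F) ≠ 0) {κ : F} (hκ : κ ≠ 0)
    (hκσ : σ κ = -κ)
    {ψ : AddChar F ℂ} (hψ : ψ 1 ≠ 1) {g : Fin m → Fin m → F} (hg : ∀ k i, σ (g k i) = g i k) (hg0 : g ≠ 0) :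
    ∑ b : Skew σ m, ψ (skL σ κ g b) = 0 := by
  classical
  have h1 : ψ.compAddMonoidHom (skL σ κ g) ≠ 0 := by
    intro h0
    obtain ⟨k0, hk0⟩ := Function.ne_iff.1 hg0
    obtain ⟨i0, hi0⟩ := Function.ne_iff.1 hk0
    have hG : g k0 i0 ≠ 0 := hi0
    set c : F := κ⁻¹ / 2 / g k0 i0 with hc
    have hcG : c * g k0 i0 = κ⁻¹ / 2 := div_mul_cancel₀ _ hG
    have hcG' : σ c * g i0 k0 = -(κ⁻¹ / 2) := by
      have h3 := congrArg σ hcG
      rw [map_mul, hg] at h3
      rw [h3, map_div₀, map_inv₀, hκσ, map_ofNat, inv_neg, neg_div]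
    let b : Skew σ m := ⟨fun k i => (if k = k0 ∧ i = i0 then c else 0) - (if k = i0 ∧ i = k0 then σ c else 0), by
      intro k i
      show ((if k = k0 ∧ i = i0 then c else 0) - (if k = i0 ∧ i = k0 then σ c else 0)) +
        σ ((if i = k0 ∧ k = i0 then c else 0) - (if i = i0 ∧ k = k0 then σ c else 0)) = 0
      rw [map_sub, apply_ite σ, apply_ite σ, hσσ, map_zero]
      by_cases h3 : k = k0 ∧ i = i0 <;> by_cases h4 : k = i0 ∧ i = k0
      · rw [if_pos h3, if_pos h4, if_pos h4.symm, if_pos h3.symm]; ring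
      · rw [if_pos h3, if_neg h4, if_neg fun h5 => h4 h5.symm, if_pos h3.symm]; ring
      · rw [if_neg h3, if_pos h4, if_pos h4.symm, if_neg fun h5 => h3 h5.symm]; ring
      · rw [if_neg h3, if_neg h4, if_neg fun h5 => h4 h5.symm, if_neg fun h5 => h3 h5.symm]; ring⟩
    have hb : skL σ κ g b = 1 := by
      have h3 : ∀ k i, (b : Fin m → Fin m → F) k i * g k i =
          (if k = k0 then (if i = i0 then c * g k0 i0 else 0) else 0) -
            (if k = i0 then (if i = k0 then σ c * g i0 k0 else 0) else 0) := by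
        intro k i
        show ((if k = k0 ∧ i = i0 then c else 0) - (if k = i0 ∧ i = k0 then σ c else 0)) * g k i = _
        rw [sub_mul, ite_mul, ite_mul, zero_mul, ite_and, ite_and]
        congr 1
        · split_ifs with h4 h5
          · rw [h4, h5]
          · rfl
          · rfl
        · split_ifs with h4 h5
          · rw [h4, h5]
          · rfl
          · rfl
      rw [skL_apply]
      simp only [h3, Finset.sum_sub_distrib]
      simp only [Finset.sum_ite_eq', Finset.mem_univ, if_true, Finset.sum_ite_irrel, Finset.sum_const_zero]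
      rw [hcG, hcG', sub_neg_eq_add, ← add_div, ← two_mul, mul_div_cancel_left₀ _ h2, mul_inv_cancel₀ hκ]
    have h3 := congrArg (fun f : AddChar (Skew σ m) ℂ => f b) h0
    apply hψ
    rw [← hb]
    exact h3
  exact (AddChar.sum_eq_zero_iff_ne_zero).2 h1

end Skew

section Siegel

variable {F : Type u} {V : Type v} [Field F] [AddCommGroup V] [Module F V] {q : ℕ} {σ : F →+* F}
  {B : V →ₛₗ[σ] V →ₗ[F] F} [Finite F] [Finite V] {m d : ℕ} {e f : Fin m → V}

/-- a basis: `e` spans a maximal totally singular subspace, `f` is dual to `e` -/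
structure WB (B : V →ₛₗ[σ] V →ₗ[F] F) (e f : Fin m → V) : Prop where
  ee : ∀ i j, B (e i) (e j) = 0
  ef : ∀ i j, B (e i) (f j) = if i = j then 1 else 0
  perp : ∀ v, (∀ i, B (e i) v = 0) → ∃ c : Fin m → F, v = ∑ k, c k • e k

theorem WB.fe (h : HS q σ B) (W : WB B e f) (i j : Fin m) : B (f j) (e i) = if i = j then 1 else 0 := by
  rw [← h.sy, W.ef, apply_ite σ, map_one, map_zero]

theorem WB.f_sum (h : HS q σ B) (W : WB B e f) (c : Fin m → F) (l : Fin m) : B (f l) (∑ k, c k • e k) = c l := by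
  rw [map_sum, Finset.sum_eq_single l]
  · rw [form_smul_right, W.fe h, if_pos rfl, mul_one]
  · intro k _ hk
    rw [form_smul_right, W.fe h, if_neg hk, mul_zero]
  · intro h1
    exact absurd (Finset.mem_univ _) h1

theorem WB.e_sum (W : WB B e f) (c : Fin m → F) (l : Fin m) : B (e l) (∑ k, c k • e k) = 0 := by
  rw [map_sum]
  exact Finset.sum_eq_zero fun k _ => by rw [form_smul_right, W.ee, mul_zero]

theorem WB.e_sumf (W : WB B e f) (c : Fin m → F) (l : Fin m) : B (e l) (∑ k, c k • f k) = c l := by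
  rw [map_sum, Finset.sum_eq_single l]
  · rw [form_smul_right, W.ef, if_pos rfl, mul_one]
  · intro k _ hk
    rw [form_smul_right, W.ef, if_neg (Ne.symm hk), mul_zero]
  · intro h1
    exact absurd (Finset.mem_univ _) h1

theorem WB.ext (h : HS q σ B) (W : WB B e f) {x y : V} (he : ∀ i, B (e i) x = B (e i) y)
    (hf : ∀ i, B (f i) x = B (f i) y) : x = y := by
  obtain ⟨c, hc⟩ := W.perp (x - y) fun i => by rw [form_sub_right, he, sub_self]
  have h1 : ∀ l, c l = 0 := by
    intro l
    rw [← W.f_sum h c l, ← hc, form_sub_right, hf, sub_self]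
  rw [← sub_eq_zero, hc]
  exact Finset.sum_eq_zero fun k _ => by rw [h1, zero_smul]

theorem exists_sg (h : HS q σ B) (W : WB B e f) (b : Skew σ m) :
    ∃ z : UU B, ∀ x, ac B z x = x + ∑ k, (∑ i, (b : Fin m → Fin m → F) k i * B (e i) x) • e k := by
  let φ : V →ₗ[F] V := LinearMap.id + ∑ k, ∑ i, (b : Fin m → Fin m → F) k i • (B (e i)).smulRight (e k)
  have hφ : ∀ x, φ x = x + ∑ k, (∑ i, (b : Fin m → Fin m → F) k i * B (e i) x) • e k := by
    intro x
    simp only [φ, LinearMap.add_apply, LinearMap.id_apply, LinearMap.sum_apply, LinearMap.smul_apply,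
      LinearMap.smulRight_apply, smul_smul, Finset.sum_smul]
  obtain ⟨z, hz⟩ := exists_ofLinear h φ (by
    intro x y
    rw [hφ, hφ, form_add_left, form_add_right, form_add_right]
    have h1 : B (∑ k, (∑ i, (b : Fin m → Fin m → F) k i * B (e i) x) • e k)
        (∑ k, (∑ i, (b : Fin m → Fin m → F) k i * B (e i) y) • e k) = 0 := by
      rw [LinearMap.map_sum₂]
      exact Finset.sum_eq_zero fun k _ => by rw [form_smul_left, W.e_sum, mul_zero]
    have h2 : B x (∑ k, (∑ i, (b : Fin m → Fin m → F) k i * B (e i) y) • e k) =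
        ∑ k, ∑ i, (b : Fin m → Fin m → F) k i * B (e i) y * B x (e k) := by
      rw [map_sum]
      exact Finset.sum_congr rfl fun k _ => by rw [form_smul_right, Finset.sum_mul]
    have h3 : B (∑ k, (∑ i, (b : Fin m → Fin m → F) k i * B (e i) x) • e k) y =
        ∑ k, ∑ i, σ ((b : Fin m → Fin m → F) i k) * B x (e k) * B (e i) y := by
      rw [LinearMap.map_sum₂, Finset.sum_comm]
      refine Finset.sum_congr rfl fun k _ => ?_
      rw [form_smul_left, map_sum, Finset.sum_mul]
      exact Finset.sum_congr rfl fun i _ => by rw [map_mul, h.sy]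
    rw [h1, h2, h3, add_zero, add_assoc, ← Finset.sum_add_distrib, Finset.sum_eq_zero, add_zero]
    intro k _
    rw [← Finset.sum_add_distrib]
    refine Finset.sum_eq_zero fun i _ => ?_
    rw [Skew.eq]
    ring)
  exact ⟨z, fun x => (hz x).trans (hφ x)⟩

/-- the Siegel radical -/
noncomputable def sg (h : HS q σ B) (W : WB B e f) (b : Skew σ m) : UU B := (exists_sg h W b).choose

theorem ac_sg (h : HS q σ B) (W : WB B e f) (b : Skew σ m) (x : V) :
    ac B (sg h W b) x = x + ∑ k, (∑ i, (b : Fin m → Fin m → F) k i * B (e i) x) • e k := (exists_sg h W b).choose_spec x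

theorem e_sg (h : HS q σ B) (W : WB B e f) (b : Skew σ m) (x : V) (l : Fin m) :
    B (e l) (ac B (sg h W b) x) = B (e l) x := by
  rw [ac_sg, form_add_right, W.e_sum, add_zero]

theorem f_sg (h : HS q σ B) (W : WB B e f) (b : Skew σ m) (x : V) (l : Fin m) :
    B (f l) (ac B (sg h W b) x) = B (f l) x + ∑ i, (b : Fin m → Fin m → F) l i * B (e i) x := by
  rw [ac_sg, form_add_right, W.f_sum h]

/-- the homomorphism -/
noncomputable def sgH (h : HS q σ B) (W : WB B e f) : Multiplicative (Skew σ m) →* UU B :=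
  MonoidHom.mk' (fun b => sg h W (Multiplicative.toAdd b)) (by
    intro b c
    apply ac_ext
    intro x
    rw [ac_mul]
    refine W.ext h (fun l => ?_) (fun l => ?_)
    · rw [e_sg, e_sg, e_sg]
    · rw [f_sg, f_sg, f_sg, toAdd_mul]
      simp only [e_sg, AddSubgroup.coe_add, Pi.add_apply, add_mul, Finset.sum_add_distrib]
      ring)

theorem sgH_apply (h : HS q σ B) (W : WB B e f) (b : Multiplicative (Skew σ m)) :
    sgH h W b = sg h W (Multiplicative.toAdd b) := rfl

theorem sgH_injective (h : HS q σ B) (W : WB B e f) : Function.Injective (sgH h W) := by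
  rw [injective_iff_map_eq_one]
  intro b hb
  apply Multiplicative.toAdd.injective
  rw [toAdd_one]
  apply Subtype.ext
  funext l j
  have h1 := f_sg h W (Multiplicative.toAdd b) (f j) l
  rw [← sgH_apply, hb, ac_one, left_eq_add] at h1
  show ((Multiplicative.toAdd b : Skew σ m) : Fin m → Fin m → F) l j = 0
  rw [← h1, Finset.sum_eq_single j]
  · rw [W.ef, if_pos rfl, mul_one]
  · intro i _ hi
    rw [W.ef, if_neg hi, mul_zero]
  · intro h2
    exact absurd (Finset.mem_univ _) h2

/-- the range of `1 - k` is the orthogonal complement of the fixed space -/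
theorem exists_sub_ac (h : HS q σ B) (k : UU B) {w : V} (hw : ∀ u ∈ fx k, B u w = 0) : ∃ a, a - ac B k a = w := by
  let L : V →ₗ[F] V := LinearMap.id - ((k : V ≃ₗ[F] V) : V →ₗ[F] V)
  have hL : ∀ a, L a = a - ac B k a := fun a => rfl
  have hker : LinearMap.ker L = fx k := by
    ext a
    rw [LinearMap.mem_ker, hL, sub_eq_zero, mem_fx, eq_comm]
  have hle : LinearMap.range L ≤ perp B (fx k) := by
    rintro _ ⟨a, rfl⟩ u hu
    rw [hL, form_sub_right]
    have h1 := form_ac k u a
    rw [mem_fx.1 hu] at h1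
    rw [h1, sub_self]
  have h1 := LinearMap.finrank_range_add_finrank_ker L
  have h2 := finrank_perp h (fx k)
  rw [hker] at h1
  have h3 : LinearMap.range L = perp B (fx k) := Submodule.eq_of_le_of_finrank_eq hle (by omega)
  have h4 : w ∈ LinearMap.range L := by rw [h3]; exact hw
  obtain ⟨a, ha⟩ := h4
  exact ⟨a, ha⟩

set_option linter.unusedSimpArgs false in
/-- the form on `K^m` -/
noncomputable def cf (κ : F) (b : Skew σ m) (K : Submodule F (Fin d → F)) :
    (Fin m → K) →ₛₗ[σ] (Fin m → K) →ₗ[F] F :=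
  LinearMap.mk₂'ₛₗ σ (RingHom.id F)
    (fun x y => skL σ κ (fun k i => BW σ d (x k : Fin d → F) (y i : Fin d → F)) b)
    (fun x x' y => by
      simp only [skL_apply, Pi.add_apply, Submodule.coe_add, map_add, LinearMap.add_apply, mul_add,
        Finset.sum_add_distrib])
    (fun c x y => by
      simp only [skL_apply, Pi.smul_apply, Submodule.coe_smul, form_smul_left, smul_eq_mul, Finset.mul_sum]
      exact Finset.sum_congr rfl fun k _ => Finset.sum_congr rfl fun i _ => by ring)
    (fun x y y' => by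
      simp only [skL_apply, Pi.add_apply, Submodule.coe_add, map_add, LinearMap.add_apply, mul_add,
        Finset.sum_add_distrib])
    (fun c x y => by
      simp only [skL_apply, Pi.smul_apply, Submodule.coe_smul, form_smul_right, smul_eq_mul, Finset.mul_sum,
        RingHom.id_apply]
      exact Finset.sum_congr rfl fun k _ => Finset.sum_congr rfl fun i _ => by ring)

theorem cf_apply (κ : F) (b : Skew σ m) (K : Submodule F (Fin d → F)) (x y : Fin m → K) :
    cf κ b K x y = skL σ κ (fun k i => BW σ d (x k : Fin d → F) (y i : Fin d → F)) b := rfl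

theorem cf_symm (h : HS q σ B) {κ : F} (hκσ : σ κ = -κ) (b : Skew σ m) (K : Submodule F (Fin d → F)) :
    (cf κ b K).IsSymm := by
  refine ⟨fun x y => ?_⟩
  rw [cf_apply, cf_apply, skL_apply, skL_apply, map_mul, hκσ, map_sum, neg_mul, ← mul_neg, ← Finset.sum_neg_distrib]
  congr 1
  simp only [map_sum, ← Finset.sum_neg_distrib]
  rw [Finset.sum_comm]
  refine Finset.sum_congr rfl fun k _ => Finset.sum_congr rfl fun i _ => ?_
  rw [map_mul, Skew.eq, (hs_pi (hs_one h) d).sy, neg_mul, neg_neg]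

theorem mem_ker_cf (h : HS q σ B) {κ : F} (hκ : κ ≠ 0) (hκσ : σ κ = -κ) (b : Skew σ m) (K : Submodule F (Fin d → F))
    (x : Fin m → K) : x ∈ LinearMap.ker (cf κ b K) ↔
      ∀ l, ∀ u ∈ K, BW σ d u (∑ i, (b : Fin m → Fin m → F) l i • (x i : Fin d → F)) = 0 := by
  have hS := cf_symm h hκσ b K
  have h1 : ∀ y : Fin m → K, cf κ b K y x =
      κ * ∑ k, BW σ d (y k : Fin d → F) (∑ i, (b : Fin m → Fin m → F) k i • (x i : Fin d → F)) := by
    intro y
    rw [cf_apply, skL_apply]
    congr 1
    refine Finset.sum_congr rfl fun k _ => ?_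
    rw [map_sum]
    exact Finset.sum_congr rfl fun i _ => (form_smul_right _ _ _).symm
  rw [LinearMap.mem_ker]
  constructor
  · intro hx l u hu
    classical
    have h2 := h1 (Pi.single l ⟨u, hu⟩)
    rw [← hS.eq, hx, LinearMap.zero_apply, map_zero, Finset.sum_eq_single l] at h2
    · rw [Pi.single_eq_same] at h2
      exact (mul_eq_zero.1 h2.symm).resolve_left hκ
    · intro k _ hk
      rw [Pi.single_eq_of_ne hk, Submodule.coe_zero, map_zero, LinearMap.zero_apply]
    · intro h3
      exact absurd (Finset.mem_univ _) h3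
  · intro hx
    apply LinearMap.ext
    intro y
    rw [← hS.eq, h1, Finset.sum_eq_zero fun k _ => hx k _ (y k).2, mul_zero, map_zero]
    rfl

theorem mem_Fx_sg (h : HS q σ B) (W : WB B e f) (b : Skew σ m) (k : UU (BW σ d)) (v : Fin d → V) :
    v ∈ Fx (sg h W b) k ↔ (∀ i, (fun j => B (e i) (v j)) ∈ fx k) ∧
      ∀ l, ac (BW σ d) k (fun j => B (f l) (v j)) + ∑ i, (b : Fin m → Fin m → F) l i • (fun j => B (e i) (v j)) =
        fun j => B (f l) (v j) := by
  rw [mem_Fx]
  constructor
  · intro hv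
    have h1 : ∀ i, (fun j => B (e i) (v j)) ∈ fx k := by
      intro i
      rw [mem_fx]
      funext j
      rw [← form_hL, ← e_sg h W b, hv]
    refine ⟨h1, fun l => ?_⟩
    funext j
    rw [← hv j, f_sg, Pi.add_apply, ← form_hL, Finset.sum_apply]
    congr 1
    refine Finset.sum_congr rfl fun i _ => ?_
    rw [Pi.smul_apply, smul_eq_mul, form_hL, mem_fx.1 (h1 i)]
  · rintro ⟨h1, h2⟩ j
    refine W.ext h (fun i => ?_) (fun l => ?_)
    · rw [e_sg, form_hL, mem_fx.1 (h1 i)]
    · rw [f_sg, form_hL]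
      have h3 := congrFun (h2 l) j
      rw [Pi.add_apply, Finset.sum_apply] at h3
      rw [← h3]
      congr 1
      refine Finset.sum_congr rfl fun i _ => ?_
      rw [Pi.smul_apply, smul_eq_mul, form_hL, mem_fx.1 (h1 i)]

/-- the dimension of the fixed space of `z ⊗ k`, `z` in the Siegel radical -/
theorem finrank_Fx_sg (h : HS q σ B) (W : WB B e f) (b : Skew σ m) (k : UU (BW σ d)) {κ : F} (hκ : κ ≠ 0)
    (hκσ : σ κ = -κ) :
    finrank F (Fx (sg h W b) k) = finrank F (Fin m → fx k) + finrank F (LinearMap.ker (cf κ b (fx k))) := by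
  have hHW : HS q σ (BW σ d) := hs_pi (hs_one h) d
  -- the map `v ↦ B (e i) v`
  let T : Fx (sg h W b) k →ₗ[F] (Fin m → fx k) :=
    { toFun := fun v i => ⟨fun j => B (e i) ((v : Fin d → V) j), ((mem_Fx_sg h W b k _).1 v.2).1 i⟩
      map_add' := fun v w => by
        funext i
        apply Subtype.ext
        funext j
        exact map_add _ _ _
      map_smul' := fun c v => by
        funext i
        apply Subtype.ext
        funext j
        exact map_smul (B (e i)) _ _ }
  have hT : ∀ v i j, ((T v i : fx k) : Fin d → F) j = B (e i) ((v : Fin d → V) j) := fun v i j => rfl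
  have hrange : LinearMap.range T = LinearMap.ker (cf κ b (fx k)) := by
    ext x
    rw [mem_ker_cf h hκ hκσ]
    constructor
    · rintro ⟨v, rfl⟩ l u hu
      have h1 := ((mem_Fx_sg h W b k _).1 v.2).2 l
      set a : Fin d → F := fun j => B (f l) ((v : Fin d → V) j) with ha
      have h2 : ∑ i, (b : Fin m → Fin m → F) l i • ((T v i : fx k) : Fin d → F) = a - ac (BW σ d) k a := by
        rw [eq_sub_iff_add_eq, add_comm]
        exact h1
      rw [h2, form_sub_right]
      have h3 := form_ac k u a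
      rw [mem_fx.1 hu] at h3
      rw [h3, sub_self]
    · intro hx
      choose a ha using fun l => exists_sub_ac hHW k (hx l)
      let v : Fin d → V := fun j => ∑ k', a k' j • e k' + ∑ k', ((x k' : fx k) : Fin d → F) j • f k'
      have hev : ∀ i, (fun j => B (e i) (v j)) = ((x i : fx k) : Fin d → F) := by
        intro i
        funext j
        show B (e i) (∑ k', a k' j • e k' + ∑ k', ((x k' : fx k) : Fin d → F) j • f k') = _
        rw [form_add_right, W.e_sum, W.e_sumf, zero_add]
      set c : Fin m → Fin d → F := fun l => ∑ k', B (f l) (f k') • ((x k' : fx k) : Fin d → F) with hc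
      have hck : ∀ l, ac (BW σ d) k (c l) = c l := by
        intro l
        have h1 : c l ∈ fx k := Submodule.sum_mem _ fun k' _ => Submodule.smul_mem _ _ (x k').2
        exact h1
      have hfv : ∀ l, (fun j => B (f l) (v j)) = a l + c l := by
        intro l
        funext j
        show B (f l) (∑ k', a k' j • e k' + ∑ k', ((x k' : fx k) : Fin d → F) j • f k') = _
        have h1 : c l j = ∑ k', (B (f l) (f k') • ((x k' : fx k) : Fin d → F)) j := Finset.sum_apply _ _ _
        rw [form_add_right, W.f_sum h, Pi.add_apply, map_sum, h1]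
        congr 1
        refine Finset.sum_congr rfl fun k' _ => ?_
        rw [form_smul_right, Pi.smul_apply, smul_eq_mul, mul_comm]
      have hv : v ∈ Fx (sg h W b) k := by
        rw [mem_Fx_sg]
        refine ⟨fun i => by rw [hev]; exact (x i).2, fun l => ?_⟩
        rw [hfv, ac_add, hck]
        simp only [hev]
        rw [← ha l]
        abel
      refine ⟨⟨v, hv⟩, ?_⟩
      funext i
      apply Subtype.ext
      exact hev i
  have hker : finrank F (LinearMap.ker T) = finrank F (Fin m → fx k) := by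
    have hmem : ∀ v : LinearMap.ker T, ∀ i j, B (e i) (((v : Fx (sg h W b) k) : Fin d → V) j) = 0 := by
      intro v i j
      rw [← hT, LinearMap.mem_ker.1 v.2]
      rfl
    have hfx : ∀ v : LinearMap.ker T, ∀ l, (fun j => B (f l) (((v : Fx (sg h W b) k) : Fin d → V) j)) ∈ fx k := by
      intro v l
      have h1 := ((mem_Fx_sg h W b k _).1 (v : Fx (sg h W b) k).2).2 l
      rw [mem_fx]
      rw [Finset.sum_eq_zero, add_zero] at h1
      · exact h1
      · intro i _
        funext j
        rw [Pi.smul_apply, hmem v i j, smul_zero]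
        rfl
    let G : LinearMap.ker T →ₗ[F] (Fin m → fx k) :=
      { toFun := fun v l => ⟨fun j => B (f l) (((v : Fx (sg h W b) k) : Fin d → V) j), hfx v l⟩
        map_add' := fun v w => by
          funext i
          apply Subtype.ext
          funext j
          exact map_add _ _ _
        map_smul' := fun c v => by
          funext i
          apply Subtype.ext
          funext j
          exact map_smul (B (f i)) _ _ }
    have hG : ∀ v l j, ((G v l : fx k) : Fin d → F) j = B (f l) (((v : Fx (sg h W b) k) : Fin d → V) j) :=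
      fun v l j => rfl
    refine LinearEquiv.finrank_eq (LinearEquiv.ofBijective G ⟨?_, ?_⟩)
    · intro v w hvw
      apply Subtype.ext
      apply Subtype.ext
      funext j
      refine W.ext h (fun i => ?_) (fun l => ?_)
      · rw [hmem, hmem]
      · rw [← hG, ← hG, hvw]
    · intro a
      let v : Fin d → V := fun j => ∑ k', ((a k' : fx k) : Fin d → F) j • e k'
      have hev : ∀ i, (fun j => B (e i) (v j)) = 0 := by
        intro i
        funext j
        exact W.e_sum _ _
      have hfv : ∀ l, (fun j => B (f l) (v j)) = ((a l : fx k) : Fin d → F) := by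
        intro l
        funext j
        exact W.f_sum h _ _
      have hv : v ∈ Fx (sg h W b) k := by
        rw [mem_Fx_sg]
        refine ⟨fun i => by rw [hev]; exact zero_mem _, fun l => ?_⟩
        rw [hfv, mem_fx.1 (a l).2]
        simp only [hev, smul_zero, Finset.sum_const_zero, add_zero]
      have hv2 : (⟨v, hv⟩ : Fx (sg h W b) k) ∈ LinearMap.ker T := by
        rw [LinearMap.mem_ker]
        funext i
        apply Subtype.ext
        exact hev i
      refine ⟨⟨⟨v, hv⟩, hv2⟩, ?_⟩
      funext l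
      apply Subtype.ext
      exact hfv l
  have h1 := LinearMap.finrank_range_add_finrank_ker T
  rw [hrange, hker] at h1
  rw [← h1, add_comm]

end Siegel


section Fin

variable {F : Type u} {V : Type v} [Field F] [AddCommGroup V] [Module F V] {q : ℕ} {σ : F →+* F}
  {B : V →ₛₗ[σ] V →ₗ[F] F} [Finite F] [Finite V] {m d : ℕ} {e f : Fin m → V}

theorem exists_WB (h : HS q σ B) (hn : finrank F V = 2 * m) : ∃ e f : Fin m → V, WB B e f := by
  classical
  obtain ⟨E, -, hE, hEm⟩ := exists_max h (m := m) (Or.inr hn) (E := ⊥) (by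
    intro x hx y hy
    rw [(Submodule.mem_bot F).1 hy, map_zero])
  let bE := Module.finBasisOfFinrankEq F E hEm
  let e : Fin m → V := fun i => (bE i : V)
  have hspan : ∀ v ∈ E, ∃ c : Fin m → F, v = ∑ k, c k • e k := by
    intro v hv
    refine ⟨fun k => bE.repr ⟨v, hv⟩ k, ?_⟩
    have h1 := congrArg Subtype.val (bE.sum_repr ⟨v, hv⟩)
    rw [Submodule.coe_sum] at h1
    exact h1.symm
  have hperp : perp B E = E := by
    have hle : E ≤ perp B E := fun v hv w hw => hE w hw v hv
    refine (Submodule.eq_of_le_of_finrank_eq hle ?_).symm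
    have := finrank_perp h E
    omega
  have hmem : ∀ v, (∀ i, B (e i) v = 0) → v ∈ E := by
    intro v hv
    rw [← hperp]
    intro w hw
    obtain ⟨c, rfl⟩ := hspan w hw
    rw [LinearMap.map_sum₂]
    exact Finset.sum_eq_zero fun k _ => by rw [form_smul_left, hv, mul_zero]
  let L : V →ₗ[F] (Fin m → F) := LinearMap.pi fun i => B (e i)
  have hker : LinearMap.ker L = E := by
    ext v
    rw [LinearMap.mem_ker]
    constructor
    · intro hv
      exact hmem v fun i => congrFun hv i
    · intro hv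
      funext i
      exact hE _ (bE i).2 _ hv
  have h1 := LinearMap.finrank_range_add_finrank_ker L
  rw [hker, hEm, hn] at h1
  have h2 : LinearMap.range L = ⊤ := by
    refine Submodule.eq_top_of_finrank_eq ?_
    rw [Module.finrank_fin_fun]
    omega
  have h3 : ∀ j : Fin m, ∃ x, L x = Pi.single j 1 := by
    intro j
    have h4 : (Pi.single j 1 : Fin m → F) ∈ LinearMap.range L := by rw [h2]; exact Submodule.mem_top
    exact h4
  choose f hf using h3
  refine ⟨e, f, ⟨fun i j => hE _ (bE i).2 _ (bE j).2, fun i j => ?_, fun v hv => hspan v (hmem v hv)⟩⟩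
  have h4 := congrFun (hf j) i
  show L (f j) i = _
  rw [h4, Pi.single_apply]

/-- no fixed vectors of the pointwise stabiliser of a totally singular subspace -/
theorem sum_FixS_zero (h : HS q σ B) (hn : finrank F V = 3) {χ : UU B → ℂ} (hχ : IsCharacter (UU B) χ) (hr : NoRef χ)
    {S : Submodule F V} (hS : IsTS B S) : ∑ᶠ g : FixS B S, χ (g : UU B) = 0 := by
  have h1 := finrank_le_of_TS h hS
  have h2 := finrank_perp h S
  obtain ⟨f, hf, hff⟩ := exists_unit h (W := perp B S) (fun h3 => by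
    have h4 := finrank_le_of_TS h h3
    omega)
  have hle : Ref B f ≤ FixS B S := by
    intro g hg s hs
    refine hg s ?_
    rw [mem_perp_span]
    exact h.zero_symm (hf s hs)
  by_contra hcon
  obtain ⟨n, ρ, rfl⟩ := hχ
  have h3 : md (FixS B S) ρ.character ≠ 0 := by
    rw [Ne, md_eq_zero_iff]
    exact hcon
  obtain ⟨w, hw, hfix⟩ := (md_ne_zero_iff ρ _).1 h3
  exact not_noFix ρ (Q := Ref B f) hw (fun y hy => hfix y (hle hy)) (hr f hff)

theorem sum_pi_sub [Fintype V] (K : Submodule F V) [Fintype K] (φ : (Fin m → V) → ℂ) [∀ x : Fin m → V, Decidable (∀ i, x i ∈ K)] :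
    ∑ x : Fin m → K, φ (fun i => (x i : V)) = ∑ x : Fin m → V, if ∀ i, x i ∈ K then φ x else 0 := by
  classical
  rw [← Finset.sum_filter]
  refine Finset.sum_bij' (fun x _ i => (x i : V)) (fun x hx i => ⟨x i, (Finset.mem_filter.1 hx).2 i⟩) ?_ ?_ ?_ ?_ ?_
  · intro x _
    rw [Finset.mem_filter]
    exact ⟨Finset.mem_univ _, fun i => (x i).2⟩
  · intro x _
    exact Finset.mem_univ _
  · intro x _
    rfl
  · intro x _
    rfl
  · intro x _
    rfl

/-- the sum over the Siegel radical -/
theorem sum_sg_zero (h : HS q σ B) (W : WB B e f) (h2 : (2 : F) ≠ 0) [Fintype (UU (BW σ 3))] [Fintype (Skew σ m)]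
    {ζ : UU (BW σ 3) → ℂ}
    (hζ : IsCharacter (UU (BW σ 3)) ζ) (hr : NoRef ζ) :
    ∑ b : Skew σ m, thl (iG h 3) (fun g => - wf q g) ζ (sg h W b) = 0 := by
  classical
  have := Fintype.ofFinite F
  have hHW : HS q σ (BW σ 3) := hs_pi (hs_one h) 3
  obtain ⟨κ, hκ, hκσ'⟩ := Cfsg.Agent.H910.CC.exists_skew h
  have hκσ : σ κ = -κ := eq_neg_of_add_eq_zero_right hκσ'
  obtain ⟨ψ, hψ⟩ : ∃ ψ : AddChar F ℂ, ψ 1 ≠ 1 := AddChar.exists_apply_ne_zero.2 one_ne_zero
  set Gm : (Fin m → (Fin 3 → F)) → Fin m → Fin m → F := fun x k i => BW σ 3 (x k) (x i) with hGm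
  -- the Gauss sum
  have h3 : ∀ (b : Skew σ m) (k : UU (BW σ 3)), - wf q (iG h 3 (sg h W b, k)) =
      (q : ℂ) * ∑ x : Fin m → (Fin 3 → F), if ∀ i, x i ∈ fx k then ψ (skL σ κ (Gm x) b) else 0 := by
    intro b k
    have := Fintype.ofFinite (fx k)
    rw [wf_iG, finrank_Fx_sg h W b k hκ hκσ,
      ← gauss h.card h.sig h.ne_id h.inv hψ (cf κ b (fx k)) (cf_symm h hκσ b _),
      ← sum_pi_sub (fx k) (fun x => ψ (skL σ κ (Gm x) b))]
    rfl
  have h4 : ∀ x : Fin m → (Fin 3 → F), (∑ b : Skew σ m, ψ (skL σ κ (Gm x) b)) *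
      (∑ k : UU (BW σ 3), if ∀ i, x i ∈ fx k then conj (ζ k) else 0) = 0 := by
    intro x
    by_cases hx : Gm x = 0
    · have hS : IsTS (BW σ 3) (Submodule.span F (Set.range x)) := by
        have h5 : ∀ i, ∀ w ∈ Submodule.span F (Set.range x), BW σ 3 (x i) w = 0 := by
          intro i w hw
          induction hw using Submodule.span_induction with
          | mem a ha =>
            obtain ⟨j, rfl⟩ := ha
            exact congrFun (congrFun hx i) j
          | zero => exact map_zero _
          | add a b _ _ ha hb => rw [form_add_right, ha, hb, add_zero]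
          | smul c a _ ha => rw [form_smul_right, ha, mul_zero]
        intro u hu w hw
        induction hu using Submodule.span_induction with
        | mem a ha =>
          obtain ⟨j, rfl⟩ := ha
          exact h5 j w hw
        | zero => rw [map_zero, LinearMap.zero_apply]
        | add a b _ _ ha hb => rw [form_add_left, ha, hb, add_zero]
        | smul c a _ ha => rw [form_smul_left, ha, mul_zero]
      have h5 := sum_FixS_zero hHW (by rw [Module.finrank_fin_fun]) hζ hr hS
      have h6 : (∑ k : UU (BW σ 3), if ∀ i, x i ∈ fx k then conj (ζ k) else 0) =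
          conj (∑ᶠ g : FixS (BW σ 3) (Submodule.span F (Set.range x)), ζ (g : UU (BW σ 3))) := by
        have := Fintype.ofFinite (FixS (BW σ 3) (Submodule.span F (Set.range x)))
        rw [finsum_eq_sum_of_fintype, map_sum, ← Finset.sum_filter]
        symm
        refine Finset.sum_bij' (fun g _ => (g : UU (BW σ 3))) (fun g hg => ⟨g, ?_⟩) ?_ ?_ ?_ ?_ ?_
        · intro w hw
          have h7 := (Finset.mem_filter.1 hg).2
          induction hw using Submodule.span_induction with
          | mem a ha =>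
            obtain ⟨j, rfl⟩ := ha
            exact h7 j
          | zero => exact ac_zero g
          | add a b _ _ ha hb => rw [ac_add, ha, hb]
          | smul c a _ ha => rw [ac_smul, ha]
        · intro g _
          rw [Finset.mem_filter]
          exact ⟨Finset.mem_univ _, fun i => g.2 _ (Submodule.subset_span ⟨i, rfl⟩)⟩
        · intro g _
          exact Finset.mem_univ _
        · intro g _
          rfl
        · intro g _
          rfl
        · intro g _
          rfl
      rw [h6, h5, map_zero, mul_zero]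
    · rw [sum_skew h.inv h2 hκ hκσ hψ (fun k i => hHW.sy _ _) hx, zero_mul]
  have h5 : ∀ b : Skew σ m, thl (iG h 3) (fun g => - wf q g) ζ (sg h W b) =
      ∑ x : Fin m → (Fin 3 → F), (q : ℂ) * (ψ (skL σ κ (Gm x) b) *
        (∑ k : UU (BW σ 3), if ∀ i, x i ∈ fx k then conj (ζ k) else 0)) := by
    intro b
    rw [thl]
    simp only [h3]
    have h6 : ∀ k : UU (BW σ 3), ((q : ℂ) * ∑ x : Fin m → (Fin 3 → F), if ∀ i, x i ∈ fx k then ψ (skL σ κ (Gm x) b) else 0) *
        conj (ζ k) = ∑ x : Fin m → (Fin 3 → F), (q : ℂ) * (ψ (skL σ κ (Gm x) b) * if ∀ i, x i ∈ fx k then conj (ζ k) else 0) := by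
      intro k
      rw [Finset.mul_sum, Finset.sum_mul]
      refine Finset.sum_congr rfl fun x _ => ?_
      split_ifs
      · ring
      · ring
    rw [Finset.sum_congr rfl fun k _ => h6 k, Finset.sum_comm]
    refine Finset.sum_congr rfl fun x _ => ?_
    rw [← Finset.mul_sum, ← Finset.mul_sum]
  rw [Finset.sum_congr rfl fun b _ => h5 b, Finset.sum_comm]
  refine Finset.sum_eq_zero fun x _ => ?_
  rw [← Finset.mul_sum, ← Finset.sum_mul, h4, mul_zero]

/-- `Good` for the full unitary group of even dimension `e + 1` -/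
theorem good_UU_even (h : HS q σ B) {e' : ℕ} (he : Odd e') (he5 : 5 ≤ e') (hn : finrank F V = e' + 1)
    {p r : ℕ} [Fact p.Prime] [Fact r.Prime] [CharP F r] (hr2 : r ≠ 2) (hpr : p ≠ r) (hp : ¬ p ∣ Nat.card F)
    (hord : ∀ i, 0 < i → i < e' → ¬ p ∣ Nat.card F ^ i - 1) (hpe : p ∣ Nat.card F ^ e' - 1)
    (hd : p ∣ Nat.card (UU B)) : Good p r (UU B) := by
  classical
  have hrp : r.Prime := Fact.out
  have hpp : p.Prime := Fact.out
  have hpF : (p : F) ≠ 0 := by
    rw [Ne, CharP.cast_eq_zero_iff F r]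
    intro h1
    exact hpr ((Nat.prime_dvd_prime_iff_eq hrp hpp).1 h1).symm
  have h2F : (2 : F) ≠ 0 := by
    intro h1
    have h3 : ((2 : ℕ) : F) = 0 := by exact_mod_cast h1
    rw [CharP.cast_eq_zero_iff F r] at h3
    exact hr2 ((Nat.prime_dvd_prime_iff_eq hrp Nat.prime_two).1 h3)
  obtain ⟨m, hm⟩ : ∃ m, e' + 1 = 2 * m := by
    obtain ⟨k, hk⟩ := he
    exact ⟨k + 1, by omega⟩
  obtain ⟨e, f, W⟩ := exists_WB h (hn.trans hm)
  have hHW : HS q σ (BW σ 3) := hs_pi (hs_one h) 3
  have hfW : finrank F (Fin 3 → F) = 3 := by rw [Module.finrank_fin_fun]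
  obtain ⟨χ, hχr, -, hχz, hχ, -⟩ := exists_unique_weil hHW (by rw [hfW]; exact ⟨1, rfl⟩) (by rw [hfW]) 1
  have hz : ∀ z ∈ Zs (BW σ 3), ∀ k, (χ : UU (BW σ 3) → ℂ) (z * k) = (χ : UU (BW σ 3) → ℂ) k := by
    intro z hz k
    have h1 := hχz ⟨z, hz⟩ k
    rwa [MonoidHom.one_apply, Units.val_one, one_mul] at h1
  have hf : ∀ g : UU (BW σ 3), (χ : UU (BW σ 3) → ℂ) g =
      ((q : ℂ) + 1)⁻¹ * ∑ᶠ z : Zs (BW σ 3), (- wf q ((z : UU (BW σ 3)) * g)) := by
    intro g
    rw [hχ]
    congr 1
    exact finsum_congr fun z => by rw [MonoidHom.one_apply, inv_one, Units.val_one, one_mul]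
  have := Fintype.ofFinite (UU (BW σ 3))
  have := Fintype.ofFinite (Skew σ m)
  have hfX : finrank F ((Fin 3 → V) × F) = 3 * (e' + 1) + 1 := by
    rw [Module.finrank_prod, finrank_self, Module.finrank_pi_fintype]
    simp only [hn, Finset.sum_const, Finset.card_univ, Fintype.card_fin, smul_eq_mul]
  have hom : IsCharacter (UU (prB (piB B 3))) (fun g => - wf q g) :=
    weil_isCharacter (hs_pr (hs_pi h 3)) (by rw [hfX]; exact ⟨3 * m, by omega⟩) (by rw [hfX]; omega)
  obtain ⟨u, hu⟩ := exists_prime_orderOf_dvd_card' p hd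
  refine good_of_theta (iG h 3) hom (isIrr_isCharacter χ.2) (sgH h W).range ?_ ?_ hu
    (sum_ne_zero h χ.2 hz hf)
    (fun x hx => thl_sing h hpF (by omega) hn hp hord hpe (by omega) hz hx)
  · have h1 : IsPGroup r (Multiplicative (Skew σ m)) := by
      intro b
      refine ⟨1, ?_⟩
      rw [pow_one]
      apply Multiplicative.toAdd.injective
      rw [toAdd_pow, toAdd_one]
      apply Subtype.ext
      funext k i
      rw [AddSubgroup.coe_nsmul, Pi.smul_apply, Pi.smul_apply, nsmul_eq_mul, CharP.cast_eq_zero, zero_mul]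
      rfl
    exact h1.of_surjective (sgH h W).rangeRestrict (sgH h W).rangeRestrict_surjective
  · let eY : Skew σ m ≃ (sgH h W).range :=
      Multiplicative.ofAdd.trans (MonoidHom.ofInjective (sgH_injective h W)).toEquiv
    rw [← finsum_comp_equiv eY, finsum_eq_sum_of_fintype]
    exact sum_sg_zero h W h2F (isIrr_isCharacter χ.2) hχr

end Fin

section SU

open Cfsg.Agent.H91.U Cfsg.Agent.LieClassical.HermBasic Matrix

variable {F : Type u} [Field F] [Fintype F] {q n : ℕ}

theorem p_dvd_SU' (hF : Fintype.card F = q ^ 2) {e p : ℕ} [Fact p.Prime] (he : Odd e) (hpq : ¬ p ∣ q + 1)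
    (h1 : p ∣ q ^ e + 1) : p ∣ Nat.card (SU (e + 1) F q) := by
  have he1 : 1 ≤ e := he.pos
  have h2 := Cfsg.Agent.S0278.result hF (e + 1) (by omega)
  have h3 : p ∣ ∏ i ∈ Finset.range (e + 1), (if Even i then q ^ (i + 1) + 1 else q ^ (i + 1) - 1) := by
    refine dvd_trans ?_ (Finset.dvd_prod_of_mem _ (Finset.mem_range.2 (show e - 1 < e + 1 by omega)))
    rw [if_pos (by obtain ⟨k, rfl⟩ := he; exact ⟨k, by omega⟩)]
    rwa [Nat.sub_add_cancel he1]
  have h4 : p ∣ (q + 1) * Nat.card (SU (e + 1) F q) := by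
    rw [h2]
    exact dvd_mul_of_dvd_right h3 _
  rcases (Fact.out : p.Prime).dvd_mul.1 h4 with h5 | h5
  · exact absurd h5 hpq
  · exact h5

theorem good_su_even {r : ℕ} [Fact r.Prime] [CharP F r] {p : ℕ} [Fact p.Prime] {e : ℕ} (hr2 : r ≠ 2)
    (hF : Fintype.card F = q ^ 2)
    (he : Odd e) (he5 : 5 ≤ e) (hpr : p ≠ r) (h1 : p ∣ q ^ e + 1)
    (h2 : ∀ i, 0 < i → i < e → ¬ p ∣ q ^ (2 * i) - 1) : Good p r (SU (e + 1) F q) := by
  have h := hs_std hF (e + 1)
  have hfr : finrank F (Fin (e + 1) → F) = e + 1 := finrank_std (e + 1)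
  have hrp : r.Prime := Fact.out
  have hpp : p.Prime := Fact.out
  obtain ⟨n, -, hn⟩ := FiniteField.card F r
  have hcF : Nat.card F = q ^ 2 := by rw [Nat.card_eq_fintype_card, hF]
  have hp : ¬ p ∣ Nat.card F := by
    intro h3
    rw [Nat.card_eq_fintype_card, hn] at h3
    exact hpr ((Nat.prime_dvd_prime_iff_eq hpp hrp).1 (hpp.dvd_of_dvd_pow h3))
  have hpq : ¬ p ∣ q + 1 := not_dvd_succ (by omega) h2
  have hord : ∀ i, 0 < i → i < e → ¬ p ∣ Nat.card F ^ i - 1 := by
    intro i hi hie
    rw [hcF, ← pow_mul]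
    exact h2 i hi hie
  have hpe : p ∣ Nat.card F ^ e - 1 := by
    have h3 : Nat.card F ^ e - 1 = (q ^ e + 1) * (q ^ e - 1) := by
      rw [hcF, ← pow_mul, mul_comm 2 e, pow_mul]
      have := Nat.sq_sub_sq (q ^ e) 1
      simpa using this
    rw [h3]
    exact dvd_mul_of_dvd_left h1 _
  have hj : ∀ x y : Fin (e + 1) → F, sB hF (e + 1) (LinearEquiv.refl F (Fin (e + 1) → F) x)
      (LinearEquiv.refl F (Fin (e + 1) → F) y) = hermForm (e + 1) F q y x := fun x y => rfl
  set i : SU (e + 1) F q →* UU (sB hF (e + 1)) :=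
    Cfsg.Agent.H269.CC.homU (LinearEquiv.refl F (Fin (e + 1) → F)) hj with hi
  have hinj : Function.Injective i := by
    intro A A' hAA
    apply Subtype.ext
    apply Subtype.ext
    apply Matrix.toLin'.injective
    refine LinearMap.ext fun v => ?_
    exact congrArg (fun g : UU (sB hF (e + 1)) => ac (sB hF (e + 1)) g v) hAA
  have hd : p ∣ Nat.card (UU (sB hF (e + 1))) :=
    (p_dvd_SU' hF he hpq h1).trans (Subgroup.card_dvd_of_injective i hinj)
  have hG : Good p r (UU (sB hF (e + 1))) := good_UU_even h he he5 hfr hr2 hpr hp hord hpe hd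
  have hrange : i.range = (dt (B := sB hF (e + 1))).ker := by
    ext g
    constructor
    · rintro ⟨A, rfl⟩
      exact dt_homU hF hj A
    · intro hg
      obtain ⟨A, hA⟩ := Cfsg.Agent.H269.CC.exists_homU (LinearEquiv.refl F (Fin (e + 1) → F)) hj (MonoidHom.mem_ker.1 hg)
      exact ⟨A, hA⟩
  have hidx : ¬ r ∣ (dt (B := sB hF (e + 1))).ker.index := by
    rw [Subgroup.index_ker]
    intro h3
    have h4 : r ∣ Nat.card Fˣ := h3.trans (Subgroup.card_subgroup_dvd_card _)
    rw [Nat.card_units, Nat.card_eq_fintype_card, hn] at h4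
    have h5 : r ∣ r ^ (n : ℕ) := dvd_pow_self r n.2.ne'
    have h6 := (Nat.dvd_sub_iff_right (Nat.one_le_pow _ _ hrp.pos) h5).1 h4
    exact hrp.one_lt.ne' (Nat.dvd_one.1 h6)
  have hN := Good.down (N := (dt (B := sB hF (e + 1))).ker) inferInstance hidx hG
  exact hN.congr ((MulEquiv.subgroupCongr hrange.symm).trans (MonoidHom.ofInjective hinj).symm)

/-- the theta lift: `PSU_n(q)`, `n` even, `e ≥ 5` -/
theorem good_psu_even {F : Type} [Field F] [Fintype F] {r : ℕ} [Fact r.Prime] [CharP F r] {p : ℕ} [Fact p.Prime]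
    {n e q : ℕ} (hr : r ≠ 2) (hpr : p ≠ r)
    (hq : Fintype.card F = q ^ 2) (he : Odd e) (he5 : 5 ≤ e) (hen : e ≤ n) (hne : Even n) (h1 : p ∣ q ^ e + 1)
    (h2 : ∀ i, 0 < i → i < e → ¬ p ∣ q ^ (2 * i) - 1) : Good p r (PSU n F q) := by
  obtain ⟨a, ha⟩ := he
  obtain ⟨b, hb⟩ := hne
  exact good_psu_mid hr hq (k := e + 1) (by omega) (by omega) ⟨b - a - 1, by omega⟩ (not_dvd_succ (by omega) h2)
    (good_su_even hr hq ⟨a, ha⟩ he5 hpr h1 h2)

/-- **Task [REST-PSU-EVEN]**, `e ≥ 5`. -/
theorem rest_psu_even_of5 {F : Type} [Field F] [Fintype F] {r : ℕ} [Fact r.Prime] [CharP F r] {p : ℕ} [Fact p.Prime]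
    {n e q : ℕ} (hpar : ParU r (PSU n F q)) (hr : r ≠ 2) (hpr : p ≠ r)
    (hq : Fintype.card F = q ^ 2) (he : Odd e) (he5 : 5 ≤ e) (hen : e ≤ n) (hne : Even n) (h1 : p ∣ q ^ e + 1)
    (h2 : ∀ i, 0 < i → i < e → ¬ p ∣ q ^ (2 * i) - 1) : EvAt p (PSU n F q) :=
  evAt_of_good (par_of_parU hpar) (good_psu_even hr hpr hq he he5 hen hne h1 h2)

end SU

end Cfsg.Agent.H697.EP
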