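import Cfsg.Agent.H603.CC.Fin
import Cfsg.Agent.H892.EP.TM

/-!
# S4929: `SU_e(q)`, `e` odd, `p ∣ q ^ e + 1`: the Weil character `ζ₀` (helper697)

`good_su` : `Good p r (SU e F q)` for `e ≥ 3` odd, `e` the order of `-q` modulo `p`.
-/

set_option autoImplicit false
set_option linter.unusedSectionVars false

open Cfsg
open scoped ComplexConjugate

namespace Cfsg.Agent.H697.EP

open Module Cfsg.Agent.H603.CC Cfsg.Agent.H892.EP Cfsg.Agent.Characters.Core

universe u v

section Fix

variable {F : Type u} {V : Type v} [Field F] [AddCommGroup V] [Module F V] {q : ℕ} {σ : F →+* F}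
  {B : V →ₛₗ[σ] V →ₗ[F] F} [Finite F] [Finite V]

theorem ac_pow_of_fix {x : UU B} {v : V} (h : ac B x v = v) (k : ℕ) : ac B (x ^ k) v = v := by
  induction k with
  | zero => rfl
  | succ k ih => rw [pow_succ, ac_mul, h, ih]

/-- an element of order `p` of the unitary group of a space of dimension `e` has no fixed points, if `p` does not
divide `|F| ^ i - 1` for `0 < i < e` -/
theorem eq_one_of_fix {p : ℕ} [Fact p.Prime] {x : UU B} (hx : x ^ p = 1) (hp : ¬ p ∣ Nat.card F)
    (hord : ∀ i, 0 < i → i < finrank F V → ¬ p ∣ Nat.card F ^ i - 1) (hfix : fx x ≠ ⊥) : x = 1 := by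
  classical
  set g : V ≃ₗ[F] V := (x : V ≃ₗ[F] V) with hg
  have hgp : g ^ p = 1 := congrArg Subtype.val hx
  have hP : IsPGroup p (Subgroup.zpowers g) := by
    intro a
    refine ⟨1, ?_⟩
    obtain ⟨k, hk⟩ := a.2
    apply Subtype.ext
    rw [pow_one]
    show (a : V ≃ₗ[F] V) ^ p = 1
    have hk' : g ^ k = (a : V ≃ₗ[F] V) := hk
    rw [← hk', ← zpow_natCast, ← zpow_mul, mul_comm, zpow_mul, zpow_natCast, hgp, one_zpow]
  have h1 := hP.card_modEq_card_fixedPoints V
  have h2 : Nat.card (MulAction.fixedPoints (Subgroup.zpowers g) V) = Nat.card (fx x) := by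
    refine Nat.card_congr (Equiv.subtypeEquivRight fun v => ?_)
    constructor
    · intro h
      exact h ⟨g, Subgroup.mem_zpowers g⟩
    · rintro h ⟨a, k, rfl⟩
      have h3 : g v = v := h
      show (g ^ k) v = v
      have h4 : g ∈ MulAction.stabilizer (V ≃ₗ[F] V) v := h3
      exact Subgroup.zpow_mem _ h4 k
  rw [h2, Module.natCard_eq_pow_finrank (K := F) (V := V), Module.natCard_eq_pow_finrank (K := F) (V := fx x)] at h1
  have hle : finrank F (fx x) ≤ finrank F V := Submodule.finrank_le _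
  have hpos : 0 < finrank F (fx x) := by
    rw [Nat.pos_iff_ne_zero]
    intro h0
    exact hfix (Submodule.finrank_eq_zero.1 h0)
  have hd : p ∣ Nat.card F ^ finrank F V - Nat.card F ^ finrank F (fx x) :=
    (Nat.modEq_iff_dvd' (Nat.pow_le_pow_right Nat.card_pos hle)).1 h1.symm
  rcases hle.lt_or_eq with hlt | heq
  · exfalso
    have h3 : Nat.card F ^ finrank F V - Nat.card F ^ finrank F (fx x) =
        Nat.card F ^ finrank F (fx x) * (Nat.card F ^ (finrank F V - finrank F (fx x)) - 1) := by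
      rw [Nat.mul_sub, mul_one, ← pow_add, Nat.add_sub_cancel' hle]
    rw [h3] at hd
    rcases (Fact.out : p.Prime).dvd_mul.1 hd with h4 | h4
    · exact hp ((Fact.out : p.Prime).dvd_of_dvd_pow h4)
    · exact hord _ (by omega) (by omega) h4
  · have h3 : fx x = ⊤ := Submodule.eq_top_of_finrank_eq heq
    apply ac_ext
    intro v
    have h4 : v ∈ fx x := by rw [h3]; exact Submodule.mem_top
    exact h4

theorem zs_pow (h : HS q σ B) (hn : 1 ≤ finrank F V) {z : UU B} (hz : z ∈ Zs B) : z ^ (q + 1) = 1 := by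
  obtain ⟨c, hc⟩ := hz
  have h1 := scalar_pow h hn hc
  have h2 : ∀ (k : ℕ) (x : V), ac B (z ^ k) x = c ^ k • x := by
    intro k
    induction k with
    | zero => intro x; rw [pow_zero, pow_zero, one_smul]; rfl
    | succ k ih => intro x; rw [pow_succ, ac_mul, hc, ih, pow_succ, smul_smul]
  apply ac_ext
  intro x
  rw [h2, h1, one_smul]
  rfl

/-- `z g` has no fixed vector for `g` `p`-singular -/
theorem fx_mul_eq_bot (h : HS q σ B) (hn : 1 ≤ finrank F V) {p : ℕ} [Fact p.Prime] (hp : ¬ p ∣ Nat.card F)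
    (hord : ∀ i, 0 < i → i < finrank F V → ¬ p ∣ Nat.card F ^ i - 1) (hpq : ¬ p ∣ q + 1) {z g : UU B} (hz : z ∈ Zs B)
    (hg : p ∣ orderOf g) : fx (z * g) = ⊥ := by
  by_contra hne
  obtain ⟨v, hv, hv0⟩ := Submodule.exists_mem_ne_zero_of_ne_bot hne
  have hv' : ac B (z * g) v = v := hv
  obtain ⟨k, hk⟩ := hg
  have ho : 0 < orderOf g := orderOf_pos g
  have hkpos : 0 < k := by
    rcases Nat.eq_zero_or_pos k with h0 | h0
    · rw [h0, mul_zero] at hk; omega
    · exact h0
  have hcom : Commute z g := zs_comm hz g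
  have h1 : ac B (((z * g) ^ k) ^ (q + 1)) v = v := ac_pow_of_fix (ac_pow_of_fix hv' k) (q + 1)
  have h2 : ((z * g) ^ k) ^ (q + 1) = (g ^ k) ^ (q + 1) := by
    rw [hcom.mul_pow, (hcom.pow_pow k k).mul_pow, ← pow_mul, mul_comm k, pow_mul, zs_pow h hn hz, one_pow, one_mul]
  rw [h2] at h1
  have h3 : ((g ^ k) ^ (q + 1)) ^ p = 1 := by
    rw [← pow_mul, ← pow_mul, mul_comm (q + 1) p, ← mul_assoc, pow_mul, mul_comm k p, ← hk, pow_orderOf_eq_one, one_pow]
  have h4 := eq_one_of_fix (x := (g ^ k) ^ (q + 1)) h3 hp hord (fun h0 => hv0 (by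
    have h5 : v ∈ fx ((g ^ k) ^ (q + 1)) := h1
    rw [h0] at h5
    exact (Submodule.mem_bot F).1 h5))
  have h5 : orderOf g ∣ k * (q + 1) := orderOf_dvd_of_pow_eq_one (by rw [pow_mul]; exact h4)
  rw [hk, mul_comm p k] at h5
  exact hpq (Nat.dvd_of_mul_dvd_mul_left hkpos h5)

end Fix

section YY

variable {F : Type u} {V : Type v} [Field F] [AddCommGroup V] [Module F V] {q : ℕ} {σ : F →+* F}
  {B : V →ₛₗ[σ] V →ₗ[F] F} [Finite F] [Finite V]

/-- the skew elements of the field -/
def K0 (σ : F →+* F) : AddSubgroup F where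
  carrier := {c | c + σ c = 0}
  add_mem' := by
    intro a b ha hb
    show a + b + σ (a + b) = 0
    have ha' : a + σ a = 0 := ha
    have hb' : b + σ b = 0 := hb
    rw [map_add]
    linear_combination ha' + hb'
  zero_mem' := by
    show (0 : F) + σ 0 = 0
    rw [map_zero, add_zero]
  neg_mem' := by
    intro a ha
    show -a + σ (-a) = 0
    have ha' : a + σ a = 0 := ha
    rw [map_neg]
    linear_combination -ha'

theorem card_K0 (h : HS q σ B) : Nat.card (K0 σ) = q := by
  obtain ⟨b, hb0, hb⟩ := Cfsg.Agent.H910.CC.exists_skew h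
  rw [← Cfsg.Agent.H688.CC.card_fixed h]
  have hσb : σ b = -b := eq_neg_of_add_eq_zero_right hb
  refine Nat.card_congr
    { toFun := fun c => ⟨(c : F) / b, ?_⟩
      invFun := fun c => ⟨b * c, ?_⟩
      left_inv := fun c => Subtype.ext (mul_div_cancel₀ _ hb0)
      right_inv := fun c => Subtype.ext (mul_div_cancel_left₀ _ hb0) }
  · have hc : (c : F) + σ c = 0 := c.2
    have hc' : σ (c : F) = -c := eq_neg_of_add_eq_zero_right hc
    rw [map_div₀, hσb, hc', neg_div_neg_eq]
  · show b * (c : F) + σ (b * c) = 0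
    rw [map_mul, hσb, c.2]
    ring

variable {m : ℕ} (b : Fin m → V)

/-- `x ↦ x + ∑ kᵢ B(bᵢ, x) bᵢ` -/
noncomputable def ty (B : V →ₛₗ[σ] V →ₗ[F] F) (b : Fin m → V) (k : Fin m → F) : V →ₗ[F] V :=
  LinearMap.id + ∑ i, k i • (B (b i)).smulRight (b i)

theorem ty_apply (k : Fin m → F) (x : V) : ty B b k x = x + ∑ i, (k i * B (b i) x) • b i := by
  simp only [ty, LinearMap.add_apply, LinearMap.id_apply, LinearMap.sum_apply, LinearMap.smul_apply,
    LinearMap.smulRight_apply, smul_smul]

variable {b}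

theorem exists_y (h : HS q σ B) (hb : ∀ i j, B (b i) (b j) = 0) (k : Fin m → K0 σ) :
    ∃ g : UU B, ∀ x, ac B g x = x + ∑ i, ((k i : F) * B (b i) x) • b i := by
  obtain ⟨g, hg⟩ := exists_ofLinear h (ty B b fun i => (k i : F)) (by
    intro x y
    rw [ty_apply, ty_apply]
    have h1 : ∀ (c d : Fin m → F), B (∑ i, c i • b i) (∑ i, d i • b i) = 0 := by
      intro c d
      rw [map_sum]
      refine Finset.sum_eq_zero fun j _ => ?_
      rw [form_smul_right, LinearMap.map_sum₂, Finset.sum_eq_zero, mul_zero]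
      intro i _
      rw [form_smul_left, hb, mul_zero]
    have h2 : B x (∑ i, ((k i : F) * B (b i) y) • b i) = ∑ i, (k i : F) * B (b i) y * B x (b i) := by
      rw [map_sum]
      exact Finset.sum_congr rfl fun i _ => form_smul_right _ _ _
    have h3 : B (∑ i, ((k i : F) * B (b i) x) • b i) y = ∑ i, σ ((k i : F)) * B x (b i) * B (b i) y := by
      rw [LinearMap.map_sum₂]
      refine Finset.sum_congr rfl fun i _ => ?_
      rw [form_smul_left, map_mul, h.symm.eq (b i) x]
    rw [form_add_left, form_add_right, form_add_right, h1, h2, h3, add_zero, add_assoc, ← Finset.sum_add_distrib,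
      Finset.sum_eq_zero, add_zero]
    intro i _
    have h4 : (k i : F) + σ (k i) = 0 := (k i).2
    linear_combination (B x (b i) * B (b i) y) * h4)
  exact ⟨g, fun x => by rw [hg, ty_apply]⟩

/-- the element -/
noncomputable def yy (h : HS q σ B) (hb : ∀ i j, B (b i) (b j) = 0) (k : Fin m → K0 σ) : UU B :=
  (exists_y h hb k).choose

theorem ac_yy (h : HS q σ B) (hb : ∀ i j, B (b i) (b j) = 0) (k : Fin m → K0 σ) (x : V) :
    ac B (yy h hb k) x = x + ∑ i, ((k i : F) * B (b i) x) • b i := (exists_y h hb k).choose_spec x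

theorem form_b_sum (hb : ∀ i j, B (b i) (b j) = 0) (c : Fin m → F) (j : Fin m) : B (b j) (∑ i, c i • b i) = 0 := by
  rw [map_sum]
  refine Finset.sum_eq_zero fun i _ => ?_
  rw [form_smul_right, hb, mul_zero]

/-- the elementary abelian group generated by the transvections of a basis of a totally singular subspace -/
noncomputable def yHom (h : HS q σ B) (hb : ∀ i j, B (b i) (b j) = 0) :
    Multiplicative (Fin m → K0 σ) →* UU B :=
  MonoidHom.mk' (fun k => yy h hb (Multiplicative.toAdd k)) (by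
    intro k l
    apply ac_ext
    intro x
    rw [ac_mul, ac_yy, ac_yy, ac_yy]
    have h1 : ∀ i, B (b i) (x + ∑ j, ((Multiplicative.toAdd l j : F) * B (b j) x) • b j) = B (b i) x := by
      intro i
      rw [form_add_right, form_b_sum hb, add_zero]
    simp only [h1]
    rw [add_assoc, ← Finset.sum_add_distrib]
    congr 1
    refine Finset.sum_congr rfl fun i _ => ?_
    rw [toAdd_mul, Pi.add_apply, AddSubgroup.coe_add, add_mul, add_smul, add_comm])

theorem mem_fx_yy (h : HS q σ B) (hb : ∀ i j, B (b i) (b j) = 0)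
    (hli : LinearIndependent F b) (k : Fin m → K0 σ) (x : V) :
    x ∈ fx (yy h hb k) ↔ ∀ i, k i ≠ 0 → B (b i) x = 0 := by
  rw [mem_fx, ac_yy, add_eq_left]
  constructor
  · intro h1 i hi
    have h2 := (Fintype.linearIndependent_iff.1 hli) _ h1 i
    rcases mul_eq_zero.1 h2 with h3 | h3
    · exact absurd (Subtype.ext h3) hi
    · exact h3
  · intro h1
    refine Finset.sum_eq_zero fun i _ => ?_
    by_cases hi : k i = 0
    · rw [hi, AddSubgroup.coe_zero, zero_mul, zero_smul]
    · rw [h1 i hi, mul_zero, zero_smul]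

open Classical in
theorem wf_yy (h : HS q σ B) (hb : ∀ i j, B (b i) (b j) = 0)
    (hli : LinearIndependent F b) (hn : finrank F V = 2 * m + 1) (k : Fin m → K0 σ) :
    wf q (yy h hb k) = (-(q : ℂ)) ^ (m + 1) * ∏ i, (if k i = 0 then (-(q : ℂ)) else 1) := by
  set s : Finset (Fin m) := Finset.univ.filter fun i => k i ≠ 0 with hs
  have h1 : fx (yy h hb k) = perp B (Submodule.span F (b '' (s : Set (Fin m)))) := by
    ext x
    rw [mem_fx_yy h hb hli, mem_perp]
    constructor
    · intro h2 w hw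
      induction hw using Submodule.span_induction with
      | mem w hw =>
        obtain ⟨i, hi, rfl⟩ := hw
        exact h2 i (Finset.mem_filter.1 (Finset.mem_coe.1 hi)).2
      | zero => rw [map_zero, LinearMap.zero_apply]
      | add a c _ _ ha hc => rw [form_add_left, ha, hc, add_zero]
      | smul c a _ ha => rw [form_smul_left, ha, mul_zero]
    · intro h2 i hi
      exact h2 _ (Submodule.subset_span ⟨i, Finset.mem_coe.2 (Finset.mem_filter.2 ⟨Finset.mem_univ _, hi⟩), rfl⟩)
  have h2 : finrank F (Submodule.span F (b '' (s : Set (Fin m)))) = s.card := by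
    have h3 : LinearIndependent F (fun i : (s : Set (Fin m)) => b i) := hli.comp _ Subtype.val_injective
    have h4 := finrank_span_eq_card h3
    have h5 : Fintype.card (s : Set (Fin m)) = s.card := by simp
    rw [h5] at h4
    rw [Set.image_eq_range]
    exact h4
  have h3 := finrank_perp h (Submodule.span F (b '' (s : Set (Fin m))))
  rw [h2, hn, ← h1] at h3
  have h4 : ∏ i, (if k i = 0 then (-(q : ℂ)) else 1) = (-(q : ℂ)) ^ (m - s.card) := by
    rw [Finset.prod_ite, Finset.prod_const, Finset.prod_const_one, mul_one]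
    congr 1
    have h5 := Finset.card_filter_add_card_filter_not (s := (Finset.univ : Finset (Fin m))) (fun i => k i = 0)
    rw [Finset.card_univ, Fintype.card_fin] at h5
    have h6 : (Finset.univ.filter fun i => ¬ k i = 0) = s := rfl
    rw [h6] at h5
    omega
  have h5 : s.card ≤ m := by
    have := Finset.card_le_univ s
    rwa [Fintype.card_fin] at this
  rw [h4, ← pow_add, wf]
  congr 1
  omega

theorem sum_wf_yy [Fintype (Fin m → K0 σ)] (h : HS q σ B) (hb : ∀ i j, B (b i) (b j) = 0)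
    (hli : LinearIndependent F b) (hn : finrank F V = 2 * m + 1) :
    ∑ k : Fin m → K0 σ, wf q (yy h hb k) = -(q : ℂ) ^ (m + 1) := by
  classical
  have := Fintype.ofFinite (K0 σ)
  have h1 : ∑ c : K0 σ, (if c = 0 then (-(q : ℂ)) else 1) = -1 := by
    have h2 : ∀ c : K0 σ, (if c = 0 then (-(q : ℂ)) else 1) = 1 + if c = 0 then (-(q : ℂ) - 1) else 0 := by
      intro c
      split_ifs <;> ring
    rw [Finset.sum_congr rfl fun c _ => h2 c, Finset.sum_add_distrib, Finset.sum_ite_eq' Finset.univ (0 : K0 σ),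
      if_pos (Finset.mem_univ _), Finset.sum_const, Finset.card_univ, ← Nat.card_eq_fintype_card, card_K0 h,
      nsmul_eq_mul]
    ring
  have h2 := Fintype.sum_pow (fun c : K0 σ => if c = 0 then (-(q : ℂ)) else 1) m
  rw [h1] at h2
  have h3 : ∑ k : Fin m → K0 σ, wf q (yy h hb k) =
      (-(q : ℂ)) ^ (m + 1) * ∑ k : Fin m → K0 σ, ∏ i, (if k i = 0 then (-(q : ℂ)) else 1) := by
    rw [Finset.mul_sum]
    exact Finset.sum_congr rfl fun k _ => wf_yy h hb hli hn k
  rw [h3]
  have h4 : ∑ k : Fin m → K0 σ, ∏ i, (if k i = 0 then (-(q : ℂ)) else 1) = (-1 : ℂ) ^ m := by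
    rw [h2]
    refine Finset.sum_congr ?_ fun _ _ => rfl
    ext x
    simp
  rw [h4, neg_pow, pow_succ (-1 : ℂ) m]
  have h5 : (-1 : ℂ) ^ m * (-1 : ℂ) ^ m = 1 := by rw [← mul_pow, neg_one_mul, neg_neg, one_pow]
  linear_combination (-(q : ℂ) ^ (m + 1)) * h5

/-- `z y` has no fixed vectors for a scalar `z ≠ 1` -/
theorem fx_mul_yy (h : HS q σ B) (hb : ∀ i j, B (b i) (b j) = 0) (k : Fin m → K0 σ) {z : UU B}
    (hz : z ∈ Zs B) (hz1 : z ≠ 1) : fx (z * yy h hb k) = ⊥ := by
  obtain ⟨c, hc⟩ := hz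
  rw [Submodule.eq_bot_iff]
  intro x hx
  have h1 : ac B (z * yy h hb k) x = x := hx
  rw [ac_mul, hc, ac_yy] at h1
  set t : V := ∑ i, ((k i : F) * B (b i) x) • b i with ht
  have hc1 : c ≠ 1 := by
    rintro rfl
    apply hz1
    apply ac_ext
    intro y
    rw [hc, one_smul]
    rfl
  have hbt : ∀ i, B (b i) t = 0 := fun i => form_b_sum hb _ i
  have h2 : ∀ i, B (b i) x = 0 := by
    intro i
    have h3 := congrArg (B (b i)) h1
    rw [form_smul_right, form_add_right, hbt, add_zero] at h3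
    have h4 : (c - 1) * B (b i) x = 0 := by linear_combination h3
    rcases mul_eq_zero.1 h4 with h5 | h5
    · exact absurd (sub_eq_zero.1 h5) hc1
    · exact h5
  have h3 : t = 0 := by
    rw [ht]
    refine Finset.sum_eq_zero fun i _ => ?_
    rw [h2 i, mul_zero, zero_smul]
  rw [h3, add_zero] at h1
  have h4 : (c - 1) • x = 0 := by rw [sub_smul, one_smul, h1, sub_self]
  rcases smul_eq_zero.1 h4 with h5 | h5
  · exact absurd (sub_eq_zero.1 h5) hc1
  · exact h5

end YY

section Main

/-- no fixed vectors for an `r`-subgroup: no fixed vectors for the Sylow `r`-subgroups -/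
theorem noFix_sylow {G : Type u} [Group G] [Finite G] {r : ℕ} [Fact r.Prime] (χ : IrrCharacter G) (Y : Subgroup G)
    (hY : IsPGroup r Y) (h : NoFix Y (χ : G → ℂ)) (U : Sylow r G) : NoFix (U : Subgroup G) (χ : G → ℂ) := by
  by_contra hcon
  obtain ⟨n, ρ, hρ, hρχ⟩ := χ.2
  have h2 : md (U : Subgroup G) ρ.character ≠ 0 := by
    rw [hρχ, Ne, md_eq_zero_iff]
    exact hcon
  obtain ⟨w, hw, hfix⟩ := (md_ne_zero_iff ρ U).1 h2
  obtain ⟨U', hU'⟩ := hY.exists_le_sylow
  obtain ⟨g, hg⟩ := MulAction.exists_smul_eq G U U'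
  rw [← hρχ] at h
  refine not_noFix ρ (Q := Y) (w := ρ g w) ?_ (fun y hy => ?_) h
  · intro h0
    apply hw
    have h1 : ρ g⁻¹ (ρ g w) = w := by
      rw [← Module.End.mul_apply, ← map_mul, inv_mul_cancel, map_one]
      rfl
    rw [← h1, h0, map_zero]
  · have h6 : y ∈ ((g • U : Sylow r G) : Subgroup G) := by
      rw [hg]
      exact hU' hy
    rw [Sylow.smul_def, Sylow.pointwise_smul_def, Subgroup.mem_pointwise_smul_iff_inv_smul_mem,
      ← map_inv, MulAut.smul_def, MulAut.conj_apply, inv_inv] at h6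
    rw [← Module.End.mul_apply, ← map_mul]
    have e : y * g = g * (g⁻¹ * y * g) := by group
    rw [e, map_mul, Module.End.mul_apply, hfix _ h6]

variable {F : Type u} {V : Type v} [Field F] [AddCommGroup V] [Module F V] {q : ℕ} {σ : F →+* F}
  {B : V →ₛₗ[σ] V →ₗ[F] F} [Finite F] [Finite V]

theorem yHom_injective {m : ℕ} {b : Fin m → V} (h : HS q σ B) (hb : ∀ i j, B (b i) (b j) = 0)
    (hli : LinearIndependent F b) : Function.Injective (yHom h hb) := by
  rw [injective_iff_map_eq_one]
  intro k hk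
  apply Multiplicative.toAdd.injective
  rw [toAdd_one]
  funext i
  by_contra hi
  have h1 : ∀ x, B (b i) x = 0 := by
    intro x
    have h2 : x ∈ fx (yy h hb (Multiplicative.toAdd k)) := by
      have h3 : yy h hb (Multiplicative.toAdd k) = 1 := hk
      rw [h3]
      rfl
    exact (mem_fx_yy h hb hli _ x).1 h2 i hi
  exact hli.ne_zero i (h.sep _ h1)

theorem orderOf_of_isConj {G : Type*} [Group G] {a b : G} (h : IsConj a b) : orderOf a = orderOf b := by
  obtain ⟨c, hc⟩ := isConj_iff.1 h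
  rw [← hc]
  exact (orderOf_injective (MulAut.conj c).toMonoidHom (MulAut.conj c).injective a).symm

/-- `Good` for the full unitary group of odd dimension -/
theorem good_UU (h : HS q σ B) (hodd : Odd (finrank F V)) (hn : 3 ≤ finrank F V) {p r : ℕ} [Fact p.Prime]
    [Fact r.Prime] (hqr : ∃ k, q = r ^ k) (hp : ¬ p ∣ Nat.card F)
    (hord : ∀ i, 0 < i → i < finrank F V → ¬ p ∣ Nat.card F ^ i - 1) (hpq : ¬ p ∣ q + 1)
    (hd : p ∣ Nat.card (UU B)) : Good p r (UU B) := by
  classical
  intro M hM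
  obtain ⟨χ, -, -, -, hχ, -⟩ := exists_unique_weil h hodd hn 1
  have := Fintype.ofFinite (Zs B)
  have hq1 : (q : ℂ) + 1 ≠ 0 := by exact_mod_cast Nat.succ_ne_zero q
  have hcZ : Fintype.card (Zs B) = q + 1 := by rw [← Nat.card_eq_fintype_card, card_Zs h (by omega)]
  have hχ' : ∀ g, (χ : UU B → ℂ) g = ((q : ℂ) + 1)⁻¹ * ∑ z : Zs B, - wf q ((z : UU B) * g) := by
    intro g
    rw [hχ, finsum_eq_sum_of_fintype]
    congr 1
    refine Finset.sum_congr rfl fun z _ => ?_
    rw [MonoidHom.one_apply, inv_one, Units.val_one, one_mul]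
  refine ⟨χ, ?_, ?_⟩
  · -- the principal block
    obtain ⟨u, hu⟩ := exists_prime_orderOf_dvd_card' p hd
    have hval : ∀ x ∈ {x : UU B | ∃ z, IsPPart p x z ∧ IsConj u z}, (χ : UU B → ℂ) x = -1 := by
      rintro x ⟨z, ⟨y, hy, hcom, -, hyp⟩, hz⟩
      have hzo : orderOf z = p := by rw [← orderOf_of_isConj hz, hu]
      have hcop : (orderOf z).Coprime (orderOf y) := by
        rw [hzo]
        exact ((Fact.out : p.Prime).coprime_iff_not_dvd).2 hyp
      have hx : p ∣ orderOf x := by
        rw [← hy, hcom.orderOf_mul_eq_mul_orderOf_of_coprime hcop, hzo]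
        exact dvd_mul_right _ _
      rw [hχ']
      have h1 : ∀ z : Zs B, - wf q ((z : UU B) * x) = -1 := by
        intro z
        rw [wf, fx_mul_eq_bot h (by omega) hp hord hpq z.2 hx, finrank_bot, pow_zero]
      rw [Finset.sum_congr rfl fun z _ => h1 z, Finset.sum_const, Finset.card_univ, hcZ, nsmul_eq_mul]
      push_cast
      field_simp
    refine mem_of_section_sum hM χ u ?_
    rw [finsum_mem_congr rfl hval, finsum_mem_eq_finite_toFinset_sum _ (Set.toFinite _), Finset.sum_const,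
      nsmul_eq_mul, mul_neg, mul_one, neg_ne_zero, Nat.cast_ne_zero, Finset.card_ne_zero]
    refine ⟨u, (Set.Finite.mem_toFinset _).2 ⟨u, ⟨1, mul_one u, Commute.one_right u, ⟨1, by rw [hu, pow_one]⟩, ?_⟩,
      IsConj.refl u⟩⟩
    rw [orderOf_one]
    exact (Fact.out : p.Prime).one_lt.not_ge ∘ Nat.le_of_dvd one_pos
  · -- no fixed vectors
    obtain ⟨m, hm⟩ := hodd
    obtain ⟨E, -, hE, hEm⟩ := exists_max h (m := m) (Or.inl hm) (E := ⊥) (by
      intro x hx y hy
      rw [(Submodule.mem_bot F).1 hy, map_zero])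
    let bE := Module.finBasisOfFinrankEq F E hEm
    let b : Fin m → V := fun i => (bE i : V)
    have hb : ∀ i j, B (b i) (b j) = 0 := fun i j => hE _ (bE i).2 _ (bE j).2
    have hli : LinearIndependent F b := bE.linearIndependent.map' E.subtype (Submodule.ker_subtype E)
    have hFin : Finite (Fin m → K0 σ) := inferInstance
    have := Fintype.ofFinite (Fin m → K0 σ)
    have hcard : Fintype.card (Fin m → K0 σ) = q ^ m := by
      rw [← Nat.card_eq_fintype_card, Nat.card_fun, card_K0 h, Nat.card_eq_fintype_card, Fintype.card_fin]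
    refine noFix_sylow χ (yHom h hb).range ?_ ?_
    · obtain ⟨k, hk⟩ := hqr
      have h1 : IsPGroup r (Multiplicative (Fin m → K0 σ)) := by
        refine IsPGroup.of_card (n := k * m) ?_
        have h2 : Nat.card (Multiplicative (Fin m → K0 σ)) = Nat.card (Fin m → K0 σ) := rfl
        rw [h2, Nat.card_eq_fintype_card, hcard, hk, pow_mul]
      exact h1.of_surjective (yHom h hb).rangeRestrict (yHom h hb).rangeRestrict_surjective
    · show ∑ᶠ y : (yHom h hb).range, (χ : UU B → ℂ) y = 0
      let eY : (Fin m → K0 σ) ≃ (yHom h hb).range :=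
        Multiplicative.ofAdd.trans (MonoidHom.ofInjective (yHom_injective h hb hli)).toEquiv
      rw [← finsum_comp_equiv eY, finsum_eq_sum_of_fintype]
      have h1 : ∀ k, ((eY k : (yHom h hb).range) : UU B) = yy h hb k := fun k => rfl
      simp only [h1, hχ']
      rw [← Finset.mul_sum, Finset.sum_comm]
      have h2 : ∀ z : Zs B, ∑ k : Fin m → K0 σ, - wf q ((z : UU B) * yy h hb k) =
          -(q : ℂ) ^ m + if z = 1 then ((q : ℂ) ^ (m + 1) + (q : ℂ) ^ m) else 0 := by
        intro z
        by_cases hz : z = 1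
        · rw [if_pos hz, Finset.sum_neg_distrib, hz]
          simp only [Subgroup.coe_one, one_mul]
          rw [sum_wf_yy h hb hli hm]
          ring
        · rw [if_neg hz, add_zero]
          have h3 : ∀ k : Fin m → K0 σ, - wf q ((z : UU B) * yy h hb k) = -1 := by
            intro k
            rw [wf, fx_mul_yy h hb k z.2 (fun h0 => hz (Subtype.ext h0)), finrank_bot, pow_zero]
          rw [Finset.sum_congr rfl fun k _ => h3 k, Finset.sum_const, Finset.card_univ, hcard, nsmul_eq_mul]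
          push_cast
          ring
      rw [Finset.sum_congr rfl fun z _ => h2 z, Finset.sum_add_distrib, Finset.sum_ite_eq' Finset.univ (1 : Zs B),
        if_pos (Finset.mem_univ _), Finset.sum_const, Finset.card_univ, hcZ, nsmul_eq_mul]
      push_cast
      ring

end Main

section SU

open Cfsg.Agent.H91.U Cfsg.Agent.LieClassical.HermBasic Matrix

variable {F : Type u} [Field F] [Fintype F] {q n : ℕ}

theorem dt_homU (hF : Fintype.card F = q ^ 2)
    (hj : ∀ x y : Fin n → F, sB hF n (LinearEquiv.refl F (Fin n → F) x) (LinearEquiv.refl F (Fin n → F) y) =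
      hermForm n F q y x) (A : SU n F q) :
    dt (Cfsg.Agent.H269.CC.homU (LinearEquiv.refl F (Fin n → F)) hj A) = 1 := by
  set g := Cfsg.Agent.H269.CC.homU (LinearEquiv.refl F (Fin n → F)) hj A with hg
  have h1 : LinearMap.toMatrix' ((g : (Fin n → F) ≃ₗ[F] (Fin n → F)) : (Fin n → F) →ₗ[F] (Fin n → F)) =
      Cfsg.Agent.H269.CC.mt A := by
    apply Matrix.toLin'.injective
    rw [Matrix.toLin'_toMatrix']
    ext1 i
    rfl
  ext
  rw [Units.val_one, dt_def, LinearEquiv.coe_det, ← LinearMap.det_toMatrix', h1]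
  exact A.1.2

theorem p_dvd_SU (hF : Fintype.card F = q ^ 2) {e p : ℕ} [Fact p.Prime] (he : Odd e) (hpq : ¬ p ∣ q + 1)
    (h1 : p ∣ q ^ e + 1) : p ∣ Nat.card (SU e F q) := by
  have he1 : 1 ≤ e := he.pos
  have h2 := Cfsg.Agent.S0278.result hF e he1
  have h3 : p ∣ ∏ i ∈ Finset.range e, (if Even i then q ^ (i + 1) + 1 else q ^ (i + 1) - 1) := by
    refine dvd_trans ?_ (Finset.dvd_prod_of_mem _ (Finset.mem_range.2 (show e - 1 < e by omega)))
    rw [if_pos (by obtain ⟨k, rfl⟩ := he; exact ⟨k, by omega⟩)]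
    rwa [Nat.sub_add_cancel he1]
  have h4 : p ∣ (q + 1) * Nat.card (SU e F q) := by
    rw [h2]
    exact dvd_mul_of_dvd_right h3 _
  rcases (Fact.out : p.Prime).dvd_mul.1 h4 with h5 | h5
  · exact absurd h5 hpq
  · exact h5

theorem good_su {r : ℕ} [Fact r.Prime] [CharP F r] {p : ℕ} [Fact p.Prime] {e : ℕ} (hF : Fintype.card F = q ^ 2)
    (he : Odd e) (he3 : 3 ≤ e) (hpr : p ≠ r) (h1 : p ∣ q ^ e + 1)
    (h2 : ∀ i, 0 < i → i < e → ¬ p ∣ q ^ (2 * i) - 1) : Good p r (SU e F q) := by
  have h := hs_std hF e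
  have hfr : finrank F (Fin e → F) = e := finrank_std e
  have hrp : r.Prime := Fact.out
  have hpp : p.Prime := Fact.out
  obtain ⟨n, -, hn⟩ := FiniteField.card F r
  have hqr : ∃ k, q = r ^ k := by
    have h3 : q ∣ r ^ (n : ℕ) := by rw [← hn, hF, sq]; exact dvd_mul_right _ _
    obtain ⟨k, -, hk⟩ := (Nat.dvd_prime_pow hrp).1 h3
    exact ⟨k, hk⟩
  have hcF : Nat.card F = q ^ 2 := by rw [Nat.card_eq_fintype_card, hF]
  have hp : ¬ p ∣ Nat.card F := by
    intro h3
    rw [Nat.card_eq_fintype_card, hn] at h3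
    exact hpr ((Nat.prime_dvd_prime_iff_eq hpp hrp).1 (hpp.dvd_of_dvd_pow h3))
  have hpq : ¬ p ∣ q + 1 := by
    intro h3
    refine h2 1 one_pos (by omega) ?_
    have h4 : q ^ (2 * 1) - 1 = (q + 1) * (q - 1) := by
      rw [mul_one]
      have := Nat.sq_sub_sq q 1
      simpa using this
    rw [h4]
    exact dvd_mul_of_dvd_left h3 _
  have hord : ∀ i, 0 < i → i < finrank F (Fin e → F) → ¬ p ∣ Nat.card F ^ i - 1 := by
    intro i hi hie
    rw [hcF, ← pow_mul]
    exact h2 i hi (by rw [hfr] at hie; exact hie)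
  have hj : ∀ x y : Fin e → F, sB hF e (LinearEquiv.refl F (Fin e → F) x) (LinearEquiv.refl F (Fin e → F) y) =
      hermForm e F q y x := fun x y => rfl
  set i : SU e F q →* UU (sB hF e) := Cfsg.Agent.H269.CC.homU (LinearEquiv.refl F (Fin e → F)) hj with hi
  have hinj : Function.Injective i := by
    intro A A' hAA
    apply Subtype.ext
    apply Subtype.ext
    apply Matrix.toLin'.injective
    refine LinearMap.ext fun v => ?_
    exact congrArg (fun g : UU (sB hF e) => ac (sB hF e) g v) hAA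
  have hd : p ∣ Nat.card (UU (sB hF e)) :=
    (p_dvd_SU hF he hpq h1).trans (Subgroup.card_dvd_of_injective i hinj)
  have hG : Good p r (UU (sB hF e)) := good_UU h (by rw [hfr]; exact he) (by rw [hfr]; exact he3) hqr hp hord hpq hd
  have hrange : i.range = (dt (B := sB hF e)).ker := by
    ext g
    constructor
    · rintro ⟨A, rfl⟩
      exact dt_homU hF hj A
    · intro hg
      obtain ⟨A, hA⟩ := Cfsg.Agent.H269.CC.exists_homU (LinearEquiv.refl F (Fin e → F)) hj (MonoidHom.mem_ker.1 hg)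
      exact ⟨A, hA⟩
  have hidx : ¬ r ∣ (dt (B := sB hF e)).ker.index := by
    rw [Subgroup.index_ker]
    intro h3
    have h4 : r ∣ Nat.card Fˣ := h3.trans (Subgroup.card_subgroup_dvd_card _)
    rw [Nat.card_units, Nat.card_eq_fintype_card, hn] at h4
    have h5 : r ∣ r ^ (n : ℕ) := dvd_pow_self r n.2.ne'
    have h6 := (Nat.dvd_sub_iff_right (Nat.one_le_pow _ _ hrp.pos) h5).1 h4
    exact hrp.one_lt.ne' (Nat.dvd_one.1 h6)
  have hN := Good.down (N := (dt (B := sB hF e)).ker) inferInstance hidx hG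
  exact hN.congr ((MulEquiv.subgroupCongr hrange.symm).trans (MonoidHom.ofInjective hinj).symm)

end SU

end Cfsg.Agent.H697.EP
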